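import Groth.Agent.ContrX.FactorProps

/-!
# The canonical contraction as the relative spectrum of the direct image
-/

universe u

open CategoryTheory CategoryTheory.Limits AlgebraicGeometry TopologicalSpace Opposite Polynomial
open scoped HomogeneousIdeal

set_option backward.isDefEq.respectTransparency false
set_option backward.isDefEq.respectTransparency.types false
set_option linter.style.haveILetI false
set_option linter.unusedSectionVars false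

noncomputable section

namespace Groth.Agent.ContrX

open Groth.Agent

section

variable {X : Scheme.{u}} [IsIntegral X] {L : X.Modules} {𝒜 : RelProj.QCGrAlg X} {j : L ⟶ 𝒜.toModule}
  (hL : PicF.IsInvertible L) (hLq : Coh.IsQCoh L) (hA : RelProj.IsGrSymAlg L 𝒜 j)

include hLq hA in
lemma isDomain_sections {b : X.Opens} (hb : IsAffineOpen b) [Nonempty b] {e : Γ(L, b)} (he : InvX.IsFrame e) :
    IsDomain (𝒜.presheaf.obj (op b)) :=
  MulEquiv.isDomain Γ(X, b)[X] (frameEquiv hLq hA hb he).symm.toMulEquiv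

include hL in
lemma exists_affine_frame {x : X} {O : X.Opens} (hx : x ∈ O) :
    ∃ b : X.Opens, IsAffineOpen b ∧ x ∈ b ∧ b ≤ O ∧ ∃ e : Γ(L, b), InvX.IsFrame e := by
  obtain ⟨U, hxU, e, he⟩ := InvX.exists_frame hL x
  obtain ⟨_, ⟨b, hb, rfl⟩, hxb, hsub⟩ := X.isBasis_affineOpens.exists_subset_of_mem_open
    (a := x) (u := ((U ⊓ O : X.Opens) : Set X)) ⟨hxU, hx⟩ (U ⊓ O).isOpen
  exact ⟨b, hb, hxb, fun y hy => (hsub hy).2, _, he.res (show b ≤ U from fun y hy => (hsub hy).1)⟩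

include hL hLq hA in
/-- The bundle over an integral scheme is integral. -/
theorem isIntegral_spec : IsIntegral 𝒜.toQCAlg.spec := by
  have hirr : ∀ {b : X.Opens}, IsAffineOpen b → Nonempty b → (∃ e : Γ(L, b), InvX.IsFrame e) →
      IsIrreducible ((𝒜.toQCAlg.π ⁻¹ᵁ b : 𝒜.toQCAlg.spec.Opens) : Set 𝒜.toQCAlg.spec) := by
    intro b hb hne he
    obtain ⟨e, he⟩ := he
    haveI := isDomain_sections hLq hA hb he
    rw [𝒜.toQCAlg.π_preimage b hb, Scheme.Hom.coe_opensRange, ← Set.image_univ]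
    exact (IrreducibleSpace.isIrreducible_univ _).image _ (Scheme.Hom.continuous _).continuousOn
  haveI : Nonempty 𝒜.toQCAlg.spec := by
    obtain ⟨x⟩ := (inferInstance : Nonempty X)
    obtain ⟨b, hb, hxb, -, he⟩ := exists_affine_frame hL (show x ∈ (⊤ : X.Opens) from trivial)
    exact ⟨(hirr hb ⟨⟨x, hxb⟩⟩ he).nonempty.choose⟩
  haveI : PreirreducibleSpace 𝒜.toQCAlg.spec := ⟨by
    rintro O₁ O₂ hO₁ hO₂ ⟨v₁, -, hv₁⟩ ⟨v₂, -, hv₂⟩
    obtain ⟨b₁, hb₁, hvb₁, -, he₁⟩ := exists_affine_frame hL (show 𝒜.toQCAlg.π v₁ ∈ (⊤ : X.Opens) from trivial)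
    obtain ⟨b₂, hb₂, hvb₂, -, he₂⟩ := exists_affine_frame hL (show 𝒜.toQCAlg.π v₂ ∈ (⊤ : X.Opens) from trivial)
    obtain ⟨x, hx⟩ := nonempty_preirreducible_inter b₁.isOpen b₂.isOpen ⟨_, hvb₁⟩ ⟨_, hvb₂⟩
    obtain ⟨c, hc, hxc, hcle, hec⟩ := exists_affine_frame hL (show x ∈ b₁ ⊓ b₂ from hx)
    have hi := hirr hc ⟨⟨x, hxc⟩⟩ hec
    obtain ⟨w, hw⟩ := hi.nonempty
    have h₁ := (hirr hb₁ ⟨⟨_, hvb₁⟩⟩ he₁).2 O₁ _ hO₁ (𝒜.toQCAlg.π ⁻¹ᵁ c).isOpen ⟨v₁, hvb₁, hv₁⟩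
      ⟨w, (hcle hw).1, hw⟩
    have h₂ := (hirr hb₂ ⟨⟨_, hvb₂⟩⟩ he₂).2 O₂ _ hO₂ (𝒜.toQCAlg.π ⁻¹ᵁ c).isOpen ⟨v₂, hvb₂, hv₂⟩
      ⟨w, (hcle hw).2, hw⟩
    obtain ⟨a₁, -, ha₁, ha₁c⟩ := h₁
    obtain ⟨a₂, -, ha₂, ha₂c⟩ := h₂
    obtain ⟨a, -, ha⟩ := hi.2 O₁ O₂ hO₁ hO₂ ⟨a₁, ha₁c, ha₁⟩ ⟨a₂, ha₂c, ha₂⟩
    exact ⟨a, trivial, ha⟩⟩
  haveI : IrreducibleSpace 𝒜.toQCAlg.spec := ⟨inferInstance⟩
  haveI : ∀ v : 𝒜.toQCAlg.spec, _root_.IsReduced (𝒜.toQCAlg.spec.presheaf.stalk v) := by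
    intro v
    obtain ⟨b, hb, hvb, -, e, he⟩ := exists_affine_frame hL (show 𝒜.toQCAlg.π v ∈ (⊤ : X.Opens) from trivial)
    haveI : Nonempty b := ⟨⟨_, hvb⟩⟩
    haveI := isDomain_sections hLq hA hb he
    obtain ⟨s, rfl⟩ := (𝒜.toQCAlg.π_preimage b hb).le hvb
    exact isReduced_of_injective ((𝒜.toQCAlg.ι b hb).stalkMap s).hom
      (ConcreteCategory.bijective_of_isIso ((𝒜.toQCAlg.ι b hb).stalkMap s)).1
  haveI : IsReduced 𝒜.toQCAlg.spec := isReduced_of_isReduced_stalk _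
  exact isIntegral_of_irreducibleSpace_of_isReduced _

end

/-- A scheme whose functions inject into those of a reduced scheme is reduced. -/
theorem isReduced_of_app_injective {V T : Scheme.{u}} (k : V ⟶ T) [IsReduced V]
    (hk : ∀ U : T.Opens, Function.Injective (k.app U)) : IsReduced T :=
  ⟨fun U => isReduced_of_injective (k.app U).hom (hk U)⟩

section

variable {X Y C : Scheme.{u}} {p : X ⟶ Y} [IsProper p] {L : X.Modules} {𝒜 : RelProj.QCGrAlg X} {j : L ⟶ 𝒜.toModule}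
  {j0 : X ⟶ 𝒜.toQCAlg.spec} (hθ : IsIso p.c) (hL : PicF.IsInvertible L) (hLq : Coh.IsQCoh L)
  (hA : RelProj.IsGrSymAlg L 𝒜 j) (h0 : RelCone.StrZeroBij 𝒜) (aug : 𝒜.toQCAlg ⟶ RelSpec.QCAlg.unit X)
  (haug : RelCone.IsAugmentation 𝒜 aug) (hj0 : RelCone.IsVertex 𝒜 aug j0)
  {g : C ⟶ Y} {ε : Y ⟶ C} {q : 𝒜.toQCAlg.spec ⟶ C}
  {q' : 𝒜.toQCAlg.spec ⟶ (RelSpec.QCAlg.directImage (𝒜.toQCAlg.π ≫ p)).spec}
  {u : (RelSpec.QCAlg.directImage (𝒜.toQCAlg.π ≫ p)).spec ⟶ C}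

include hθ hL hLq hA h0 haug hj0 in
/-- The factor through the relative spectrum of the direct image is a factor of contractions. -/
theorem exists_isFactor (hamp : RelAmple.IsRelAmple p L) (hε : ε ≫ g = 𝟙 Y) (hjq : j0 ≫ q = p ≫ ε)
    (hq'π : q' ≫ (RelSpec.QCAlg.directImage (𝒜.toQCAlg.π ≫ p)).π = 𝒜.toQCAlg.π ≫ p)
    (hq' : AffAlg.algHom (RelSpec.QCAlg.directImage (𝒜.toQCAlg.π ≫ p)).π (𝒜.toQCAlg.π ≫ p) q' hq'π =
      (RelSpec.QCAlg.directImage (𝒜.toQCAlg.π ≫ p)).gammaMap)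
    [IsProper q] (V0 : 𝒜.toQCAlg.spec.Opens) (hV0 : (V0 : Set 𝒜.toQCAlg.spec) = (Set.range j0)ᶜ)
    (hqo : IsOpenImmersion (V0.ι ≫ q)) (hqr : Set.range (V0.ι ≫ q) = (Set.range ε)ᶜ)
    (hug : u ≫ g = (RelSpec.QCAlg.directImage (𝒜.toQCAlg.π ≫ p)).π) (hu : q' ≫ u = q) :
    ∃ ε' : Y ⟶ (RelSpec.QCAlg.directImage (𝒜.toQCAlg.π ≫ p)).spec,
      IsFactor g ε (RelSpec.QCAlg.directImage (𝒜.toQCAlg.π ≫ p)).π ε' q q' u V0 ∧
        q' '' Set.range j0 = Set.range ε' ∧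
          (IsReduced 𝒜.toQCAlg.spec → IsReduced (RelSpec.QCAlg.directImage (𝒜.toQCAlg.π ≫ p)).spec) := by
  obtain ⟨e, he, hqe⟩ := exists_iso_directImage p j0 hj0.comp_π hθ q' hq'π hq'
  have hps := (isoOnBasis_self p hθ)
  haveI := GITQuot.epi_of_surjective_of_app_injective p hps.surjective hps.app_injective
  have hqq : q' = contrMap p j0 hj0.comp_π ≫ e.inv := by rw [← hqe, Category.assoc, Iso.hom_inv_id, Category.comp_id]
  have hεε : p ≫ contrVertex p j0 hj0.comp_π ≫ e.inv = j0 ≫ q' := by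
    rw [hqq, ← Category.assoc, ← zero_contrMap, Category.assoc]
  have hrange : Set.range (contrVertex p j0 hj0.comp_π ≫ e.inv) = e.inv '' Set.range (contrVertex p j0 hj0.comp_π) := by
    rw [← Set.range_comp]; rfl
  haveI := isProper_contrMap p j0 hj0.comp_π hL hLq hA h0 aug haug hj0 hamp
  have hiso := isoOnBasis_contrMap p j0 hj0.comp_π hθ
  haveI : Surjective (contrMap p j0 hj0.comp_π) := ⟨hiso.surjective⟩
  haveI := isOpenImmersion_contr p j0 hj0.comp_π hL hLq hA h0 aug haug hj0 V0 hV0 hamp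
  refine ⟨contrVertex p j0 hj0.comp_π ≫ e.inv,
    { ε_g := hε
      ε_π := by rw [Category.assoc, ← he, Iso.inv_hom_id_assoc, contrVertex_comp]
      u_g := hug
      q_u := hu
      ε_u := by rw [← cancel_epi p, Category.assoc, reassoc_of% hεε, hu, hjq]
      proper := inferInstance
      sep := inferInstance
      surj := by rw [hqq]; infer_instance
      open' := by rw [hqq, ← Category.assoc]; infer_instance
      range' := ?_
      openC := hqo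
      rangeC := hqr }, ?_, ?_⟩
  · have hr := range_contr p j0 hj0.comp_π hL hLq hA h0 aug haug hj0 V0 hV0 hamp
    have h1 : Set.range (V0.ι ≫ q') = e.inv '' Set.range (V0.ι ≫ contrMap p j0 hj0.comp_π) := by
      rw [hqq, ← Category.assoc, ← Set.range_comp]; rfl
    rw [h1, hr, hrange]
    exact Set.image_compl_eq e.inv.homeomorph.bijective
  · rw [← Set.range_comp]
    show Set.range (j0 ≫ q') = _
    rw [← hεε]
    refine Set.Subset.antisymm (Set.range_comp_subset_range _ (contrVertex p j0 hj0.comp_π ≫ e.inv)) ?_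
    rintro _ ⟨y, rfl⟩
    obtain ⟨x, rfl⟩ := hps.surjective y
    exact ⟨x, rfl⟩
  · intro hred
    haveI := hred
    haveI : IsReduced (contr p j0 hj0.comp_π) := isReduced_of_app_injective (contrMap p j0 hj0.comp_π) hiso.app_injective
    exact isReduced_of_isOpenImmersion e.hom

end

end Groth.Agent.ContrX
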