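import Groth.Prelude.Def_RelSpec
import Mathlib.Topology.Sheaves.SheafCondition.UniqueGluing

/-!
# Fibre products of quasi-coherent algebras
-/

universe u

open CategoryTheory CategoryTheory.Limits AlgebraicGeometry TopologicalSpace Opposite

set_option backward.isDefEq.respectTransparency false
set_option backward.isDefEq.respectTransparency.types false
set_option linter.style.haveILetI false
set_option linter.unusedSectionVars false

noncomputable section

namespace Groth.Agent.ContrX

variable {S : Scheme.{u}} {A B D : RelSpec.QCAlg S} (φ : A ⟶ D) (ψ : B ⟶ D)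

/-- The pairs with equal images. -/
def fibRing (U : (S.Opens)ᵒᵖ) : Subring (A.presheaf.obj U × B.presheaf.obj U) :=
  RingHom.eqLocus ((φ.hom.app U).hom.comp (RingHom.fst _ _)) ((ψ.hom.app U).hom.comp (RingHom.snd _ _))

lemma mem_fibRing {U : (S.Opens)ᵒᵖ} {x : A.presheaf.obj U × B.presheaf.obj U} :
    x ∈ fibRing φ ψ U ↔ (φ.hom.app U).hom x.1 = (ψ.hom.app U).hom x.2 := Iff.rfl

/-- Restriction of pairs. -/
def fibMap {U V : (S.Opens)ᵒᵖ} (i : U ⟶ V) : fibRing φ ψ U →+* fibRing φ ψ V :=
  RingHom.codRestrict (((A.presheaf.map i).hom.prodMap (B.presheaf.map i).hom).comp (fibRing φ ψ U).subtype)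
    (fibRing φ ψ V) fun x => by
      refine (mem_fibRing φ ψ).mpr ?_
      show (φ.hom.app V).hom ((A.presheaf.map i).hom x.1.1) = (ψ.hom.app V).hom ((B.presheaf.map i).hom x.1.2)
      rw [NatTrans.naturality_apply φ.hom i, NatTrans.naturality_apply ψ.hom i, (mem_fibRing φ ψ).mp x.2]

/-- The presheaf of pairs with equal images. -/
def fibPresheaf : TopCat.Presheaf CommRingCat.{u} S.carrier where
  obj U := CommRingCat.of (fibRing φ ψ U)
  map i := CommRingCat.ofHom (fibMap φ ψ i)
  map_id U := by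
    refine CommRingCat.hom_ext (RingHom.ext fun x => Subtype.ext (Prod.ext ?_ ?_))
    · show (A.presheaf.map (𝟙 U)).hom x.1.1 = x.1.1
      rw [CategoryTheory.Functor.map_id]; rfl
    · show (B.presheaf.map (𝟙 U)).hom x.1.2 = x.1.2
      rw [CategoryTheory.Functor.map_id]; rfl
  map_comp i k := by
    refine CommRingCat.hom_ext (RingHom.ext fun x => Subtype.ext (Prod.ext ?_ ?_))
    · show (A.presheaf.map (i ≫ k)).hom x.1.1 = (A.presheaf.map k).hom ((A.presheaf.map i).hom x.1.1)
      rw [CategoryTheory.Functor.map_comp]; rfl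
    · show (B.presheaf.map (i ≫ k)).hom x.1.2 = (B.presheaf.map k).hom ((B.presheaf.map i).hom x.1.2)
      rw [CategoryTheory.Functor.map_comp]; rfl

lemma fibPresheaf_isSheaf : (fibPresheaf φ ψ).IsSheaf := by
  rw [TopCat.Presheaf.isSheaf_iff_isSheafUniqueGluing]
  intro ι U sf hsf
  obtain ⟨a, ha, hau⟩ := TopCat.Presheaf.IsSheaf.isSheafUniqueGluing A.isSheaf U (fun i => (sf i).1.1)
    (fun i j => congrArg (fun x => x.1.1) (hsf i j))
  obtain ⟨b, hb, hbu⟩ := TopCat.Presheaf.IsSheaf.isSheafUniqueGluing B.isSheaf U (fun i => (sf i).1.2)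
    (fun i j => congrArg (fun x => x.1.2) (hsf i j))
  have hab : (φ.hom.app (op (iSup U))).hom a = (ψ.hom.app (op (iSup U))).hom b := by
    refine TopCat.Sheaf.eq_of_locally_eq (⟨D.presheaf, D.isSheaf⟩ : TopCat.Sheaf CommRingCat.{u} S.carrier) U _ _
      fun i => ?_
    refine (NatTrans.naturality_apply φ.hom _ a).symm.trans
      (Eq.trans ?_ (NatTrans.naturality_apply ψ.hom _ b))
    show (φ.hom.app _).hom ((A.presheaf.map _).hom a) = (ψ.hom.app _).hom ((B.presheaf.map _).hom b)
    erw [ha i, hb i]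
    exact (mem_fibRing φ ψ).mp (sf i).2
  refine ⟨⟨(a, b), (mem_fibRing φ ψ).mpr hab⟩, fun i => Subtype.ext (Prod.ext (ha i) (hb i)), ?_⟩
  intro x hx
  exact Subtype.ext (Prod.ext (hau x.1.1 fun i => congrArg (fun y => y.1.1) (hx i))
    (hbu x.1.2 fun i => congrArg (fun y => y.1.2) (hx i)))

/-- The structure map of the fibre product. -/
def fibStr : S.presheaf ⟶ fibPresheaf φ ψ where
  app U := CommRingCat.ofHom (RingHom.codRestrict ((A.str.app U).hom.prod (B.str.app U).hom) (fibRing φ ψ U) fun r => by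
    refine (mem_fibRing φ ψ).mpr ?_
    show (φ.hom.app U).hom ((A.str.app U).hom r) = (ψ.hom.app U).hom ((B.str.app U).hom r)
    rw [← CommRingCat.comp_apply, ← CommRingCat.comp_apply, ← NatTrans.comp_app, ← NatTrans.comp_app, φ.comm, ψ.comm])
  naturality U V i := by
    refine CommRingCat.hom_ext (RingHom.ext fun x => Subtype.ext (Prod.ext ?_ ?_))
    · exact NatTrans.naturality_apply A.str i x
    · exact NatTrans.naturality_apply B.str i x

/-- The fibre product of quasi-coherent algebras. -/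
def fibAlg : RelSpec.QCAlg S where
  presheaf := fibPresheaf φ ψ
  isSheaf := fibPresheaf_isSheaf φ ψ
  str := fibStr φ ψ
  isQC := by
    intro U hU r
    set i := (homOfLE (S.basicOpen_le r)).op
    letI : Algebra (A.presheaf.obj (op U)) (A.presheaf.obj (op (S.basicOpen r))) := (A.presheaf.map i).hom.toAlgebra
    letI : Algebra (B.presheaf.obj (op U)) (B.presheaf.obj (op (S.basicOpen r))) := (B.presheaf.map i).hom.toAlgebra
    letI : Algebra (D.presheaf.obj (op U)) (D.presheaf.obj (op (S.basicOpen r))) := (D.presheaf.map i).hom.toAlgebra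
    haveI : IsLocalization.Away ((A.str.app (op U)).hom r) (A.presheaf.obj (op (S.basicOpen r))) := A.isQC U hU r
    haveI : IsLocalization.Away ((B.str.app (op U)).hom r) (B.presheaf.obj (op (S.basicOpen r))) := B.isQC U hU r
    haveI : IsLocalization.Away ((D.str.app (op U)).hom r) (D.presheaf.obj (op (S.basicOpen r))) := D.isQC U hU r
    letI : Algebra ((fibPresheaf φ ψ).obj (op U)) ((fibPresheaf φ ψ).obj (op (S.basicOpen r))) :=
      ((fibPresheaf φ ψ).map i).hom.toAlgebra
    have hA : ∀ x, algebraMap (A.presheaf.obj (op U)) (A.presheaf.obj (op (S.basicOpen r))) x =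
      (A.presheaf.map i).hom x := fun _ => rfl
    have hB : ∀ x, algebraMap (B.presheaf.obj (op U)) (B.presheaf.obj (op (S.basicOpen r))) x =
      (B.presheaf.map i).hom x := fun _ => rfl
    show IsLocalization.Away (show (fibPresheaf φ ψ).obj (op U) from ((fibStr φ ψ).app (op U)).hom r) _
    set σ : (fibPresheaf φ ψ).obj (op U) := ((fibStr φ ψ).app (op U)).hom r
    have hu : IsUnit ((S.presheaf.map i).hom r) := by
      have := RingedSpace.isUnit_res_basicOpen S.toRingedSpace r
      exact this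
    refine (isLocalization_iff (Submonoid.powers σ) _).mpr ⟨?_, ?_, ?_⟩
    · rintro ⟨_, n, rfl⟩
      rw [map_pow]
      refine IsUnit.pow n ?_
      show IsUnit (((fibPresheaf φ ψ).map i).hom (((fibStr φ ψ).app (op U)).hom r))
      rw [show ((fibPresheaf φ ψ).map i).hom (((fibStr φ ψ).app (op U)).hom r) =
        ((fibStr φ ψ).app (op (S.basicOpen r))).hom ((S.presheaf.map i).hom r) from
        (NatTrans.naturality_apply (fibStr φ ψ) i r).symm]
      exact hu.map _
    · rintro ⟨⟨a, b⟩, hab⟩
      obtain ⟨n, a₀, ha₀⟩ := IsLocalization.Away.surj ((A.str.app (op U)).hom r) a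
      obtain ⟨m, b₀, hb₀⟩ := IsLocalization.Away.surj ((B.str.app (op U)).hom r) b
      have hφ' : ∀ x : A.presheaf.obj (op U), (D.presheaf.map i).hom ((φ.hom.app (op U)).hom x) =
          (φ.hom.app (op (S.basicOpen r))).hom (algebraMap _ _ x) := fun x => (NatTrans.naturality_apply φ.hom i x).symm
      have hψ' : ∀ x : B.presheaf.obj (op U), (D.presheaf.map i).hom ((ψ.hom.app (op U)).hom x) =
          (ψ.hom.app (op (S.basicOpen r))).hom (algebraMap _ _ x) := fun x => (NatTrans.naturality_apply ψ.hom i x).symm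
      have hd : (D.presheaf.map i).hom ((φ.hom.app (op U)).hom ((A.str.app (op U)).hom r ^ m * a₀)) =
          (D.presheaf.map i).hom ((ψ.hom.app (op U)).hom ((B.str.app (op U)).hom r ^ n * b₀)) := by
        rw [hφ', hψ', map_mul (algebraMap (A.presheaf.obj (op U)) _), map_mul (algebraMap (B.presheaf.obj (op U)) _),
          map_pow, map_pow, ← ha₀, ← hb₀]
        simp only [map_mul, map_pow]
        have e1 : (φ.hom.app (op U)).hom ((A.str.app (op U)).hom r) = (D.str.app (op U)).hom r :=
          congr($(NatTrans.congr_app φ.comm (op U)).hom r)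
        have e2 : (ψ.hom.app (op U)).hom ((B.str.app (op U)).hom r) = (D.str.app (op U)).hom r :=
          congr($(NatTrans.congr_app ψ.comm (op U)).hom r)
        erw [← hφ', ← hψ', e1, e2, (mem_fibRing φ ψ).mp hab]
        ring
      obtain ⟨k, hk⟩ := IsLocalization.Away.exists_of_eq ((D.str.app (op U)).hom r) hd
      have hφr : (φ.hom.app (op U)).hom ((A.str.app (op U)).hom r) = (D.str.app (op U)).hom r :=
        congr($(NatTrans.congr_app φ.comm (op U)).hom r)
      have hψr : (ψ.hom.app (op U)).hom ((B.str.app (op U)).hom r) = (D.str.app (op U)).hom r :=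
        congr($(NatTrans.congr_app ψ.comm (op U)).hom r)
      refine ⟨⟨⟨((A.str.app (op U)).hom r ^ k * ((A.str.app (op U)).hom r ^ m * a₀),
          (B.str.app (op U)).hom r ^ k * ((B.str.app (op U)).hom r ^ n * b₀)), ?_⟩, ⟨σ ^ (k + (n + m)), _, rfl⟩⟩, ?_⟩
      · refine (mem_fibRing φ ψ).mpr ?_
        rw [map_mul (φ.hom.app (op U)).hom, map_mul (ψ.hom.app (op U)).hom, map_pow, map_pow, hφr, hψr]
        exact hk
      · refine Subtype.ext (Prod.ext ?_ ?_)
        · show a * (A.presheaf.map i).hom ((A.str.app (op U)).hom r ^ (k + (n + m))) =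
            (A.presheaf.map i).hom ((A.str.app (op U)).hom r ^ k * ((A.str.app (op U)).hom r ^ m * a₀))
          rw [← hA, ← hA]
          simp only [map_mul, map_pow, ← ha₀]
          ring
        · show b * (B.presheaf.map i).hom ((B.str.app (op U)).hom r ^ (k + (n + m))) =
            (B.presheaf.map i).hom ((B.str.app (op U)).hom r ^ k * ((B.str.app (op U)).hom r ^ n * b₀))
          rw [← hB, ← hB]
          simp only [map_mul, map_pow, ← hb₀]
          ring
    · intro x y h
      have h1 : (A.presheaf.map i).hom x.1.1 = (A.presheaf.map i).hom y.1.1 := congrArg (fun w => w.1.1) h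
      have h2 : (B.presheaf.map i).hom x.1.2 = (B.presheaf.map i).hom y.1.2 := congrArg (fun w => w.1.2) h
      obtain ⟨n, hn⟩ := IsLocalization.Away.exists_of_eq ((A.str.app (op U)).hom r) ((hA _).trans (h1.trans (hA _).symm))
      obtain ⟨m, hm⟩ := IsLocalization.Away.exists_of_eq ((B.str.app (op U)).hom r) ((hB _).trans (h2.trans (hB _).symm))
      refine ⟨⟨σ ^ (n + m), _, rfl⟩, Subtype.ext (Prod.ext ?_ ?_)⟩
      · show (A.str.app (op U)).hom r ^ (n + m) * x.1.1 = (A.str.app (op U)).hom r ^ (n + m) * y.1.1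
        rw [pow_add, mul_comm ((A.str.app (op U)).hom r ^ n), mul_assoc, hn, ← mul_assoc]
      · show (B.str.app (op U)).hom r ^ (n + m) * x.1.2 = (B.str.app (op U)).hom r ^ (n + m) * y.1.2
        rw [pow_add, mul_assoc, hm, ← mul_assoc]

/-- The first projection. -/
def fibFst : fibAlg φ ψ ⟶ A where
  hom :=
    { app := fun U => CommRingCat.ofHom ((RingHom.fst _ _).comp (fibRing φ ψ U).subtype)
      naturality := fun _ _ _ => rfl }
  comm := rfl

/-- The second projection. -/
def fibSnd : fibAlg φ ψ ⟶ B where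
  hom :=
    { app := fun U => CommRingCat.ofHom ((RingHom.snd _ _).comp (fibRing φ ψ U).subtype)
      naturality := fun _ _ _ => rfl }
  comm := rfl

lemma fib_comm : fibFst φ ψ ≫ φ = fibSnd φ ψ ≫ ψ :=
  RelSpec.QCAlg.hom_ext (NatTrans.ext (funext fun _ =>
    CommRingCat.hom_ext (RingHom.ext fun x => (mem_fibRing φ ψ).mp x.2)))

lemma fib_ext {U : S.Opens} {x y : (fibAlg φ ψ).presheaf.obj (op U)}
    (h₁ : ((fibFst φ ψ).hom.app (op U)).hom x = ((fibFst φ ψ).hom.app (op U)).hom y)
    (h₂ : ((fibSnd φ ψ).hom.app (op U)).hom x = ((fibSnd φ ψ).hom.app (op U)).hom y) : x = y :=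
  Subtype.ext (Prod.ext h₁ h₂)

lemma fib_exists {U : S.Opens} (a : A.presheaf.obj (op U)) (b : B.presheaf.obj (op U))
    (h : (φ.hom.app (op U)).hom a = (ψ.hom.app (op U)).hom b) :
    ∃ x : (fibAlg φ ψ).presheaf.obj (op U),
      ((fibFst φ ψ).hom.app (op U)).hom x = a ∧ ((fibSnd φ ψ).hom.app (op U)).hom x = b :=
  ⟨⟨(a, b), (mem_fibRing φ ψ).mpr h⟩, rfl, rfl⟩

end Groth.Agent.ContrX
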