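import Groth.Agent.ContrX.LineChart
import Groth.Agent.ContrX.FibAlg
import Groth.Agent.RelSpecX.Gamma
import Groth.Agent.RelSpecX.AffHom
import Groth.Agent.SymX.PowElt
import Groth.Agent.AmpleX.Sect
import Mathlib.AlgebraicGeometry.Morphisms.Finite

/-!
# The contraction of the zero section of a relatively ample line bundle
-/

universe u

open CategoryTheory CategoryTheory.Limits AlgebraicGeometry TopologicalSpace Opposite Polynomial
open scoped HomogeneousIdeal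

set_option backward.isDefEq.respectTransparency false
set_option backward.isDefEq.respectTransparency.types false
set_option linter.style.haveILetI false
set_option linter.unusedSectionVars false

noncomputable section

namespace Groth.Agent.ContrX

open Groth.Agent

lemma pull_fromSpec {X : Scheme.{u}} {a W : X.Opens} (ha : IsAffineOpen a) (h : a ≤ W) (z : Γ(X, W))
    (hc : ⊤ ≤ ha.fromSpec ⁻¹ᵁ W) : pull ha.fromSpec hc z = AModX.resR h z := by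
  show (Scheme.ΓSpecIso _).hom.hom ((ha.fromSpec.appLE W ⊤ hc).hom z) = _
  rw [Scheme.Hom.appLE, IsAffineOpen.fromSpec_app_of_le _ W h]
  simp only [Category.assoc, ← CommRingCat.comp_apply]
  rw [← CategoryTheory.Functor.map_comp_assoc,
    show ∀ k : (op (⊤ : (Spec Γ(X, a)).Opens) : (Spec Γ(X, a)).Opensᵒᵖ) ⟶ op ⊤,
      (Spec Γ(X, a)).presheaf.map k = 𝟙 _ from fun k => by
        rw [Subsingleton.elim k (𝟙 _)]; exact CategoryTheory.Functor.map_id _ _,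
    Category.id_comp, Iso.inv_hom_id, Category.comp_id]
  rfl

lemma pull_appLE {V T : Scheme.{u}} {S : CommRingCat.{u}} (h : V ⟶ T) {O : T.Opens} {O' : V.Opens} (e : O' ≤ h ⁻¹ᵁ O)
    (c : Spec S ⟶ V) (hc : ⊤ ≤ c ⁻¹ᵁ O') (hc' : ⊤ ≤ (c ≫ h) ⁻¹ᵁ O) (F : Γ(T, O)) :
    pull c hc ((h.appLE O O' e).hom F) = pull (c ≫ h) hc' F := by
  rw [pull, pull, ← Scheme.Hom.appLE_comp_appLE c h O O' ⊤ e hc]
  rfl

variable {X Y : Scheme.{u}} (p : X ⟶ Y) [IsSeparated p] [QuasiCompact p]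
  {L : X.Modules} {𝒜 : RelProj.QCGrAlg X} {j : L ⟶ 𝒜.toModule} (j0 : X ⟶ 𝒜.toQCAlg.spec)
  (hj0π : j0 ≫ 𝒜.toQCAlg.π = 𝟙 X)

/-- Restriction to the zero section, on direct images. -/
def zeroRes : RelSpec.QCAlg.directImage (𝒜.toQCAlg.π ≫ p) ⟶ RelSpec.QCAlg.directImage p :=
  ⟨AffAlg.algHom (𝒜.toQCAlg.π ≫ p) p j0 (by rw [← Category.assoc, hj0π, Category.id_comp]),
    AffAlg.algHom_comm _ _ _ _⟩

/-- The structure map of a direct image, as an algebra homomorphism. -/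
def strMap : RelSpec.QCAlg.unit Y ⟶ RelSpec.QCAlg.directImage p := ⟨p.c, Category.id_comp _⟩

/-- Functions on the bundle, constant along the zero section. -/
def contrAlg : RelSpec.QCAlg Y := fibAlg (zeroRes p j0 hj0π) (strMap p)

/-- The contracted bundle. -/
def contr : Scheme.{u} := (contrAlg p j0 hj0π).spec

/-- Its structure morphism. -/
def contrπ : contr p j0 hj0π ⟶ Y := (contrAlg p j0 hj0π).π

instance : IsAffineHom (contrπ p j0 hj0π) := inferInstanceAs (IsAffineHom (contrAlg p j0 hj0π).π)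

/-- The functions giving the contraction. -/
def qAlg : AffAlg.algHoms (contrπ p j0 hj0π) (𝒜.toQCAlg.π ≫ p) :=
  ⟨(contrAlg p j0 hj0π).gammaMap ≫ (fibFst (zeroRes p j0 hj0π) (strMap p)).hom, by
    refine ((Category.assoc _ _ _).symm.trans (congrArg (· ≫ _) (contrAlg p j0 hj0π).π_c_gammaMap)).trans ?_
    exact (fibFst (zeroRes p j0 hj0π) (strMap p)).comm⟩

/-- The functions giving the vertex section. -/
def εAlg : AffAlg.algHoms (contrπ p j0 hj0π) (𝟙 Y) :=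
  ⟨(contrAlg p j0 hj0π).gammaMap ≫ (fibSnd (zeroRes p j0 hj0π) (strMap p)).hom, by
    refine ((Category.assoc _ _ _).symm.trans (congrArg (· ≫ _) (contrAlg p j0 hj0π).π_c_gammaMap)).trans ?_
    exact (fibSnd (zeroRes p j0 hj0π) (strMap p)).comm⟩

/-- The contraction. -/
def contrMap : 𝒜.toQCAlg.spec ⟶ contr p j0 hj0π :=
  RelSpecX.ofAlgHom (contrπ p j0 hj0π) (𝒜.toQCAlg.π ≫ p) (qAlg p j0 hj0π)

/-- The vertex. -/
def contrVertex : Y ⟶ contr p j0 hj0π := RelSpecX.ofAlgHom (contrπ p j0 hj0π) (𝟙 Y) (εAlg p j0 hj0π)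

lemma contrMap_comp : contrMap p j0 hj0π ≫ contrπ p j0 hj0π = 𝒜.toQCAlg.π ≫ p := RelSpecX.ofAlgHom_comp _ _ _

lemma contrVertex_comp : contrVertex p j0 hj0π ≫ contrπ p j0 hj0π = 𝟙 Y := RelSpecX.ofAlgHom_comp _ _ _

lemma zero_contrMap : j0 ≫ contrMap p j0 hj0π = p ≫ contrVertex p j0 hj0π := by
  have w₁ : j0 ≫ 𝒜.toQCAlg.π ≫ p = p := by rw [← Category.assoc, hj0π, Category.id_comp]
  refine RelSpecX.algHom_injective (contrπ p j0 hj0π) p
    (by rw [Category.assoc, contrMap_comp, w₁])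
    (by rw [Category.assoc, contrVertex_comp, Category.comp_id]) fun U => ?_
  refine Eq.trans (NatTrans.congr_app (RelSpecX.algHom_comp (contrπ p j0 hj0π) (𝒜.toQCAlg.π ≫ p) p
    (contrMap p j0 hj0π) (contrMap_comp p j0 hj0π) j0 w₁) (op U.1)) ?_
  refine Eq.trans ?_ (NatTrans.congr_app (RelSpecX.algHom_comp (contrπ p j0 hj0π) (𝟙 Y) p
    (contrVertex p j0 hj0π) (contrVertex_comp p j0 hj0π) p (Category.comp_id p)) (op U.1)).symm
  have e₁ : (AffAlg.algHom (contrπ p j0 hj0π) (𝒜.toQCAlg.π ≫ p) (contrMap p j0 hj0π) (contrMap_comp p j0 hj0π)).app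
      (op U.1) = (qAlg p j0 hj0π).1.app (op U.1) :=
    (RelSpecX.algHom_app _ _ _ _ _).trans (RelSpecX.appLE_ofAlgHom _ _ (qAlg p j0 hj0π) U _)
  have e₂ : (AffAlg.algHom (contrπ p j0 hj0π) (𝟙 Y) (contrVertex p j0 hj0π) (contrVertex_comp p j0 hj0π)).app
      (op U.1) = (εAlg p j0 hj0π).1.app (op U.1) :=
    (RelSpecX.algHom_app _ _ _ _ _).trans (RelSpecX.appLE_ofAlgHom _ _ (εAlg p j0 hj0π) U _)
  have e₃ : (AffAlg.algHom (𝟙 Y) p p (Category.comp_id p)).app (op U.1) = p.app U.1 := by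
    rw [RelSpecX.algHom_app, Scheme.Hom.app_eq_appLE]
    rfl
  refine CommRingCat.hom_ext (RingHom.ext fun f => ?_)
  rw [NatTrans.comp_app, NatTrans.comp_app, e₁, e₂, e₃]
  exact congr($(NatTrans.congr_app (congrArg RelSpec.QCAlg.Hom.hom (fib_comm (zeroRes p j0 hj0π) (strMap p))) (op U.1)).hom
    (((contrAlg p j0 hj0π).gammaMap.app (op U.1)).hom f))

section elements

variable (U : Y.Opens) (hU : IsAffineOpen U)

/-- Functions on the contraction, restricted to the bundle. -/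
def toBundle : Γ(contr p j0 hj0π, contrπ p j0 hj0π ⁻¹ᵁ U) →+* Γ(𝒜.toQCAlg.spec, (𝒜.toQCAlg.π ≫ p) ⁻¹ᵁ U) :=
  ((qAlg p j0 hj0π).1.app (op U)).hom

/-- Functions on the contraction, restricted to the vertex. -/
def toBase : Γ(contr p j0 hj0π, contrπ p j0 hj0π ⁻¹ᵁ U) →+* Γ(Y, U) :=
  ((εAlg p j0 hj0π).1.app (op U)).hom

lemma le_preimage_contrMap : (𝒜.toQCAlg.π ≫ p) ⁻¹ᵁ U ≤ contrMap p j0 hj0π ⁻¹ᵁ (contrπ p j0 hj0π ⁻¹ᵁ U) :=
  (RelSpecX.preimage_eq _ _ _ (contrMap_comp p j0 hj0π) U).le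

include hU in
lemma appLE_contrMap : ((contrMap p j0 hj0π).appLE (contrπ p j0 hj0π ⁻¹ᵁ U) ((𝒜.toQCAlg.π ≫ p) ⁻¹ᵁ U)
    (le_preimage_contrMap p j0 hj0π U)).hom = toBundle p j0 hj0π U :=
  congrArg CommRingCat.Hom.hom (RelSpecX.appLE_ofAlgHom _ _ (qAlg p j0 hj0π) ⟨U, hU⟩ _)

include hj0π in
lemma zeroSec_le : p ⁻¹ᵁ U ≤ j0 ⁻¹ᵁ ((𝒜.toQCAlg.π ≫ p) ⁻¹ᵁ U) :=
  (RelSpecX.preimage_eq (𝒜.toQCAlg.π ≫ p) p j0 (by rw [← Category.assoc, hj0π, Category.id_comp]) U).le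

lemma exists_elt_contr (σ : Γ(𝒜.toQCAlg.spec, (𝒜.toQCAlg.π ≫ p) ⁻¹ᵁ U)) (r : Γ(Y, U))
    (h : (j0.appLE ((𝒜.toQCAlg.π ≫ p) ⁻¹ᵁ U) (p ⁻¹ᵁ U) (zeroSec_le p j0 hj0π U)).hom σ = (p.app U).hom r) :
    ∃ f, toBundle p j0 hj0π U f = σ ∧ toBase p j0 hj0π U f = r := by
  obtain ⟨w, hw₁, hw₂⟩ := fib_exists (zeroRes p j0 hj0π) (strMap p) (U := U) σ r (by
    refine Eq.trans ?_ h
    exact congrArg (fun k => CommRingCat.Hom.hom k σ)
      (RelSpecX.algHom_app (𝒜.toQCAlg.π ≫ p) p j0 (by rw [← Category.assoc, hj0π, Category.id_comp]) U))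
  haveI := RelSpecX.isIso_gammaMap (contrAlg p j0 hj0π)
  haveI : IsIso ((contrAlg p j0 hj0π).gammaMap.app (op U)) := NatIso.isIso_app_of_isIso _ _
  obtain ⟨f, hf⟩ := (ConcreteCategory.bijective_of_isIso ((contrAlg p j0 hj0π).gammaMap.app (op U))).2 w
  refine ⟨f, ?_, ?_⟩
  · show ((fibFst (zeroRes p j0 hj0π) (strMap p)).hom.app (op U)).hom _ = σ
    erw [hf]; exact hw₁
  · show ((fibSnd (zeroRes p j0 hj0π) (strMap p)).hom.app (op U)).hom _ = r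
    erw [hf]; exact hw₂

lemma contr_ext {f f' : Γ(contr p j0 hj0π, contrπ p j0 hj0π ⁻¹ᵁ U)}
    (h₁ : toBundle p j0 hj0π U f = toBundle p j0 hj0π U f') (h₂ : toBase p j0 hj0π U f = toBase p j0 hj0π U f') :
    f = f' :=
  haveI := RelSpecX.isIso_gammaMap (contrAlg p j0 hj0π)
  haveI : IsIso ((contrAlg p j0 hj0π).gammaMap.app (op U)) := NatIso.isIso_app_of_isIso _ _
  (ConcreteCategory.bijective_of_isIso ((contrAlg p j0 hj0π).gammaMap.app (op U))).1 (fib_ext _ _ h₁ h₂)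

lemma zero_toBundle (f : Γ(contr p j0 hj0π, contrπ p j0 hj0π ⁻¹ᵁ U)) :
    (j0.appLE ((𝒜.toQCAlg.π ≫ p) ⁻¹ᵁ U) (p ⁻¹ᵁ U) (zeroSec_le p j0 hj0π U)).hom (toBundle p j0 hj0π U f) =
      (p.app U).hom (toBase p j0 hj0π U f) := by
  rw [← RelSpecX.algHom_app (𝒜.toQCAlg.π ≫ p) p j0 (by rw [← Category.assoc, hj0π, Category.id_comp]) U]
  exact congr($(NatTrans.congr_app (congrArg RelSpec.QCAlg.Hom.hom (fib_comm (zeroRes p j0 hj0π) (strMap p))) (op U)).hom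
    (((contrAlg p j0 hj0π).gammaMap.app (op U)).hom f))

/-- Multiples of a function vanishing on the vertex come from the contraction. -/
lemma exists_mul (f : Γ(contr p j0 hj0π, contrπ p j0 hj0π ⁻¹ᵁ U)) (hf : toBase p j0 hj0π U f = 0)
    (b : Γ(𝒜.toQCAlg.spec, (𝒜.toQCAlg.π ≫ p) ⁻¹ᵁ U)) :
    ∃ w, toBundle p j0 hj0π U w = toBundle p j0 hj0π U f * b ∧ toBase p j0 hj0π U w = 0 :=
  exists_elt_contr p j0 hj0π U _ 0 (by rw [map_mul, zero_toBundle, hf, map_zero, zero_mul])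

/-- A function killed on the bundle is killed by the functions vanishing on the vertex. -/
lemma mul_eq_zero_of (f w : Γ(contr p j0 hj0π, contrπ p j0 hj0π ⁻¹ᵁ U)) (hf : toBase p j0 hj0π U f = 0)
    (hw : toBundle p j0 hj0π U w = 0) : f * w = 0 :=
  contr_ext p j0 hj0π U (by rw [map_mul, hw, mul_zero, map_zero]) (by rw [map_mul, hf, zero_mul, map_zero])

end elements

lemma isIso_morphismRestrict_of {V T : Scheme.{u}} (q : V ⟶ T) {D : T.Opens} {D' : V.Opens} (hD : IsAffineOpen D)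
    (hD' : IsAffineOpen D') (e : D' = q ⁻¹ᵁ D) (hq : Function.Bijective (q.appLE D D' e.le).hom) : IsIso (q ∣_ D) := by
  subst e
  haveI : IsAffine D := hD
  haveI : IsIso (q.appLE D (q ⁻¹ᵁ D) le_rfl) := (ConcreteCategory.isIso_iff_bijective _).mpr hq
  refine (HasAffineProperty.iff_of_isAffine (P := .isomorphisms _)).mpr ⟨hD', ?_⟩
  rw [Scheme.Hom.appTop, morphismRestrict_app, Scheme.Hom.app_eq_appLE, Scheme.Hom.appLE_map]
  exact (Scheme.Hom.appLE_congr q _ (by simp) (by simp) (fun k => IsIso k)).mpr this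

variable (hL : PicF.IsInvertible L) (hLq : Coh.IsQCoh L) (hA : RelProj.IsGrSymAlg L 𝒜 j)
  (h0 : RelCone.StrZeroBij 𝒜) (aug : 𝒜.toQCAlg ⟶ RelSpec.QCAlg.unit X)
  (haug : RelCone.IsAugmentation 𝒜 aug) (hj0 : RelCone.IsVertex 𝒜 aug j0)

section sigma

variable {U : Y.Opens} {n : ℕ} (a : Γ(CohB1.tensorPow L n, p ⁻¹ᵁ U))

/-- The function on the bundle of a section of a tensor power. -/
def sigma : Γ(𝒜.toQCAlg.spec, (𝒜.toQCAlg.π ≫ p) ⁻¹ᵁ U) :=
  ((inv 𝒜.toQCAlg.gammaMap).app (op (p ⁻¹ᵁ U))).hom (SymX.elt j a)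

lemma pull_ι_sigma {b : X.Opens} (hb : IsAffineOpen b) (hbU : b ≤ p ⁻¹ᵁ U) (hc) :
    pull (𝒜.toQCAlg.ι b hb) hc (sigma p (j := j) a) = (𝒜.presheaf.map (homOfLE hbU).op).hom (SymX.elt j a) := by
  show (((𝒜.toQCAlg.ι b hb).appLE (𝒜.toQCAlg.π ⁻¹ᵁ (p ⁻¹ᵁ U)) ⊤ hc) ≫ (Scheme.ΓSpecIso _).hom).hom (sigma p (j := j) a) = _
  rw [RelSpecX.ι_appLE_mono 𝒜.toQCAlg hb hbU, CommRingCat.comp_apply]
  congr 1
  show (((inv 𝒜.toQCAlg.gammaMap).app (op (p ⁻¹ᵁ U))) ≫ (𝒜.toQCAlg.gammaMap.app (op (p ⁻¹ᵁ U)))).hom _ = _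
  rw [← NatTrans.comp_app, IsIso.inv_hom_id]
  rfl

include hLq hA in
lemma chart_le {b : X.Opens} (hb : IsAffineOpen b) (hbU : b ≤ p ⁻¹ᵁ U) {e : Γ(L, b)} (he : InvX.IsFrame e) :
    ⊤ ≤ chart hLq hA hb he ⁻¹ᵁ ((𝒜.toQCAlg.π ≫ p) ⁻¹ᵁ U) := fun t _ => by
  show p (𝒜.toQCAlg.π (chart hLq hA hb he t)) ∈ U
  rw [← Scheme.Hom.comp_apply (chart hLq hA hb he), chart_π hLq hA hb he, Scheme.Hom.comp_apply]
  exact hbU (hb.range_fromSpec.le ⟨_, rfl⟩)

include hLq hA in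
lemma pull_chart_sigma {b : X.Opens} (hb : IsAffineOpen b) (hbU : b ≤ p ⁻¹ᵁ U) {e : Γ(L, b)} (he : InvX.IsFrame e)
    {r : Γ(X, b)} (hr : AModX.res _ hbU a = r • AmpleX.powElt e n) :
    pull (chart hLq hA hb he) (chart_le p hLq hA hb hbU he) (sigma p (j := j) a) = C r * Polynomial.X ^ n := by
  rw [pull_congr (show chart hLq hA hb he = Spec.map (CommRingCat.ofHom (frameEquiv hLq hA hb he).symm.toRingHom) ≫
      𝒜.toQCAlg.ι b hb from rfl),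
    pull_comp (CommRingCat.ofHom (frameEquiv hLq hA hb he).symm.toRingHom) _
      (RelSpecX.top_le_preimage' 𝒜.toQCAlg hb hbU), pull_ι_sigma p a hb hbU, SymX.res_elt_of_coord hA hbU hr]
  show (frameEquiv hLq hA hb he).symm _ = _
  rw [map_mul, map_pow, frameEquiv_symm_str, frameEquiv_symm_frame]

include hL hA haug hj0 in
lemma zero_sigma (hn : 0 < n) :
    (j0.appLE ((𝒜.toQCAlg.π ≫ p) ⁻¹ᵁ U) (p ⁻¹ᵁ U) (zeroSec_le p j0 hj0π U)).hom (sigma p (j := j) a) = 0 := by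
  refine AModX.eq_of_locally (M := Coh.structureModule X) _ _ fun x hx => ?_
  obtain ⟨b, hb, hbU, e, r, hxb, -, hr⟩ := SymX.exists_local_frame hA hL a hx
  refine ⟨b, hbU, hxb, ?_⟩
  show AModX.resR hbU _ = AModX.resR hbU 0
  have hc : ⊤ ≤ hb.fromSpec ⁻¹ᵁ (p ⁻¹ᵁ U) := fun t _ => hbU (hb.range_fromSpec.le ⟨t, rfl⟩)
  have hc' : ⊤ ≤ (hb.fromSpec ≫ j0) ⁻¹ᵁ ((𝒜.toQCAlg.π ≫ p) ⁻¹ᵁ U) := fun t _ =>
    zeroSec_le p j0 hj0π U (hc trivial : t ∈ _)
  rw [map_zero, ← pull_fromSpec hb hbU _ hc, pull_appLE j0 _ hb.fromSpec hc hc', pull_congr (hj0.chart b hb),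
    pull_comp (aug.hom.app (op b)) _ (RelSpecX.top_le_preimage' 𝒜.toQCAlg hb hbU), pull_ι_sigma p a hb hbU]
  obtain ⟨k, rfl⟩ : ∃ k, n = k + 1 := ⟨n - 1, by omega⟩
  exact haug b hb k _ (SymX.res_elt_mem hL hA hb hbU a)

include hL hLq hA h0 haug hj0 in
/-- Where the function of a section is invertible. -/
theorem mem_sigma_iff (hn : 0 < n) (v : 𝒜.toQCAlg.spec) :
    v ∈ 𝒜.toQCAlg.spec.basicOpen (sigma p (j := j) a) ↔ 𝒜.toQCAlg.π v ∈ AmpleX.locus a ∧ v ∉ Set.range j0 := by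
  by_cases hv : 𝒜.toQCAlg.π v ∈ p ⁻¹ᵁ U
  swap
  · exact ⟨fun h => absurd (𝒜.toQCAlg.spec.basicOpen_le _ h) hv, fun h => absurd (AmpleX.locus_le a h.1) hv⟩
  obtain ⟨b, hb, hbU, e, r, hvb, he, hr⟩ := SymX.exists_local_frame hA hL a hv
  obtain ⟨t, ht⟩ : v ∈ Set.range (chart hLq hA hb he) := by
    obtain ⟨s, hs⟩ := (𝒜.toQCAlg.π_preimage b hb).le hvb
    refine ⟨Spec.map (CommRingCat.ofHom (frameEquiv hLq hA hb he).toRingHom) s, ?_⟩
    rw [← hs, chart, ← Scheme.Hom.comp_apply, ← Spec.map_comp_assoc, ← CommRingCat.ofHom_comp,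
      RingEquiv.toRingHom_comp_symm_toRingHom]
    simp <;> rfl
  rw [← ht, mem_basicOpen_iff _ (chart_le p hLq hA hb hbU he), pull_chart_sigma p hLq hA a hb hbU he hr,
    chart_mem_range_iff hLq hA h0 aug haug hj0 hb he, ← Scheme.Hom.comp_apply, chart_π hLq hA hb he,
    Scheme.Hom.comp_apply]
  have hloc := AmpleX.locus_inf a hbU (AmpleX.isFrame_powElt he n) hr
  have hmem : ∀ s, hb.fromSpec s ∈ AmpleX.locus a ↔ r ∉ s.asIdeal := fun s => by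
    rw [show hb.fromSpec s ∈ AmpleX.locus a ↔ hb.fromSpec s ∈ AmpleX.locus a ⊓ b from
      ⟨fun h => ⟨h, hb.range_fromSpec.le ⟨s, rfl⟩⟩, fun h => h.1⟩, hloc]
    exact SetLike.ext_iff.mp (hb.fromSpec_preimage_basicOpen r) s
  rw [t.isPrime.mul_mem_iff_mem_or_mem, t.isPrime.pow_mem_iff_mem n hn, not_or]
  exact and_congr (hmem (Spec.map (CommRingCat.ofHom C) t)).symm Iff.rfl

include hL hLq hA h0 haug hj0 in
theorem isAffineOpen_sigma (hn : 0 < n) (hT : IsAffineOpen (AmpleX.locus a)) :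
    IsAffineOpen (𝒜.toQCAlg.spec.basicOpen (sigma p (j := j) a)) := by
  have hle : 𝒜.toQCAlg.π ⁻¹ᵁ AmpleX.locus a ≤ (𝒜.toQCAlg.π ≫ p) ⁻¹ᵁ U := fun v hv => AmpleX.locus_le a hv
  have h := (hT.preimage 𝒜.toQCAlg.π).basicOpen ((𝒜.toQCAlg.spec.presheaf.map (homOfLE hle).op).hom (sigma p (j := j) a))
  rw [Scheme.basicOpen_res, inf_eq_right.mpr fun v hv =>
    ((mem_sigma_iff p j0 hL hLq hA h0 aug haug hj0 a hn v).mp hv).1] at h
  exact h

end sigma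

variable (V0 : 𝒜.toQCAlg.spec.Opens) (hV0 : (V0 : Set 𝒜.toQCAlg.spec) = (Set.range j0)ᶜ)

include hj0π hL hLq hA h0 haug hj0 in
/-- The data of an ample section. -/
theorem exists_sigma (hamp : RelAmple.IsRelAmple p L) (x : X) :
    ∃ (U : Y.Opens) (_ : IsAffineOpen U) (n : ℕ) (_ : 0 < n) (a : Γ(CohB1.tensorPow L n, p ⁻¹ᵁ U))
      (f : Γ(contr p j0 hj0π, contrπ p j0 hj0π ⁻¹ᵁ U)),
      x ∈ AmpleX.locus a ∧ IsAffineOpen (AmpleX.locus a) ∧ toBundle p j0 hj0π U f = sigma p (j := j) a ∧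
        toBase p j0 hj0π U f = 0 := by
  obtain ⟨_, ⟨U, hU, rfl⟩, hxU, -⟩ :=
    Y.isBasis_affineOpens.exists_subset_of_mem_open (Set.mem_univ (p x)) isOpen_univ
  obtain ⟨n, hn, a, hxa, -, haff⟩ := AmpleX.exists_sections_of_isRelAmple hamp hU hxU (U := ⊤) trivial
  obtain ⟨f, hf₁, hf₂⟩ := exists_elt_contr p j0 hj0π U (sigma p (j := j) a) 0 (by
    rw [map_zero]; exact zero_sigma p j0 hj0π hL hA aug haug hj0 a hn)
  exact ⟨U, hU, n, hn, a, f, hxa, haff, hf₁, hf₂⟩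

include hV0 in
lemma preimage_basicOpen_le {U : Y.Opens} (hU : IsAffineOpen U)
    (f : Γ(contr p j0 hj0π, contrπ p j0 hj0π ⁻¹ᵁ U)) :
    contrMap p j0 hj0π ⁻¹ᵁ (contr p j0 hj0π).basicOpen f =
        𝒜.toQCAlg.spec.basicOpen (toBundle p j0 hj0π U f) ∧
      (toBase p j0 hj0π U f = 0 → contrMap p j0 hj0π ⁻¹ᵁ (contr p j0 hj0π).basicOpen f ≤ V0) := by
  have e : contrMap p j0 hj0π ⁻¹ᵁ (contr p j0 hj0π).basicOpen f = 𝒜.toQCAlg.spec.basicOpen (toBundle p j0 hj0π U f) := by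
    rw [← appLE_contrMap p j0 hj0π U hU, Scheme.Hom.appLE, CommRingCat.comp_apply, Scheme.basicOpen_res,
      Scheme.preimage_basicOpen, eq_comm, inf_eq_right]
    exact fun v hv => (RelSpecX.preimage_eq _ _ _ (contrMap_comp p j0 hj0π) U).ge ((𝒜.toQCAlg.spec.basicOpen_le _) hv)
  refine ⟨e, fun hf v hv => ?_⟩
  by_contra hne
  obtain ⟨x, rfl⟩ : v ∈ Set.range j0 := by
    by_contra hn
    exact hne (hV0.ge hn)
  rw [e] at hv
  have hx : x ∈ j0 ⁻¹ᵁ 𝒜.toQCAlg.spec.basicOpen (toBundle p j0 hj0π U f) := hv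
  have hxU : x ∈ p ⁻¹ᵁ U := (RelSpecX.preimage_eq (𝒜.toQCAlg.π ≫ p) p j0
    (by rw [← Category.assoc, hj0π, Category.id_comp]) U).ge (𝒜.toQCAlg.spec.basicOpen_le _ hv)
  have hmem : x ∈ X.basicOpen ((j0.appLE ((𝒜.toQCAlg.π ≫ p) ⁻¹ᵁ U) (p ⁻¹ᵁ U) (zeroSec_le p j0 hj0π U)).hom
      (toBundle p j0 hj0π U f)) := by
    rw [Scheme.Hom.appLE, CommRingCat.comp_apply, Scheme.basicOpen_res, ← Scheme.preimage_basicOpen]
    exact ⟨hxU, hx⟩
  rw [zero_toBundle, hf, map_zero, Scheme.basicOpen_zero] at hmem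
  exact hmem.elim

include hL hLq hA h0 haug hj0 hV0 in
/-- The contraction is an isomorphism over the standard opens of ample sections. -/
theorem isIso_over_basicOpen {U : Y.Opens} (hU : IsAffineOpen U) {n : ℕ} (hn : 0 < n)
    (a : Γ(CohB1.tensorPow L n, p ⁻¹ᵁ U)) (haff : IsAffineOpen (AmpleX.locus a))
    (f : Γ(contr p j0 hj0π, contrπ p j0 hj0π ⁻¹ᵁ U)) (hf : toBundle p j0 hj0π U f = sigma p (j := j) a)
    (hf0 : toBase p j0 hj0π U f = 0) : IsIso (contrMap p j0 hj0π ∣_ (contr p j0 hj0π).basicOpen f) := by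
  set σ := sigma p (j := j) a with hσ
  have hT : IsAffineOpen (contrπ p j0 hj0π ⁻¹ᵁ U) := hU.preimage _
  have hpre : 𝒜.toQCAlg.spec.basicOpen σ = contrMap p j0 hj0π ⁻¹ᵁ (contr p j0 hj0π).basicOpen f := by
    rw [(preimage_basicOpen_le p j0 hj0π V0 hV0 hU f).1, hf]
  refine isIso_morphismRestrict_of _ (hT.basicOpen f) (isAffineOpen_sigma p j0 hL hLq hA h0 aug haug hj0 a hn haff)
    hpre ?_
  have hcomm : ∀ w, ((contrMap p j0 hj0π).appLE _ _ hpre.le).hom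
      (((contr p j0 hj0π).presheaf.map (homOfLE ((contr p j0 hj0π).basicOpen_le f)).op).hom w) =
      (𝒜.toQCAlg.spec.presheaf.map (homOfLE (𝒜.toQCAlg.spec.basicOpen_le σ)).op).hom (toBundle p j0 hj0π U w) := by
    intro w
    rw [← appLE_contrMap p j0 hj0π U hU, ← CommRingCat.comp_apply, ← CommRingCat.comp_apply,
      Scheme.Hom.map_appLE, Scheme.Hom.appLE_map]
  haveI := hT.isLocalization_basicOpen f
  have hcompact : IsCompact (((𝒜.toQCAlg.π ≫ p) ⁻¹ᵁ U : 𝒜.toQCAlg.spec.Opens) : Set 𝒜.toQCAlg.spec) :=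
    (𝒜.toQCAlg.π ≫ p).isCompact_preimage hU.isCompact
  have hqs : IsQuasiSeparated (((𝒜.toQCAlg.π ≫ p) ⁻¹ᵁ U : 𝒜.toQCAlg.spec.Opens) : Set 𝒜.toQCAlg.spec) :=
    (𝒜.toQCAlg.π ≫ p).isQuasiSeparated_preimage hU.isQuasiSeparated
  haveI := isLocalization_basicOpen_of_qcqs hcompact hqs σ
  letI : Algebra Γ(𝒜.toQCAlg.spec, (𝒜.toQCAlg.π ≫ p) ⁻¹ᵁ U) Γ(𝒜.toQCAlg.spec, 𝒜.toQCAlg.spec.basicOpen σ) :=
    (𝒜.toQCAlg.spec.presheaf.map (homOfLE (𝒜.toQCAlg.spec.basicOpen_le σ)).op).hom.toAlgebra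
  have hres : ∀ w, algebraMap Γ(contr p j0 hj0π, contrπ p j0 hj0π ⁻¹ᵁ U) Γ(contr p j0 hj0π, (contr p j0 hj0π).basicOpen f) w =
      ((contr p j0 hj0π).presheaf.map (homOfLE ((contr p j0 hj0π).basicOpen_le f)).op).hom w := fun _ => rfl
  have hresV : ∀ w, algebraMap Γ(𝒜.toQCAlg.spec, (𝒜.toQCAlg.π ≫ p) ⁻¹ᵁ U) Γ(𝒜.toQCAlg.spec, 𝒜.toQCAlg.spec.basicOpen σ) w =
      (𝒜.toQCAlg.spec.presheaf.map (homOfLE (𝒜.toQCAlg.spec.basicOpen_le σ)).op).hom w := fun _ => rfl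
  constructor
  · rw [injective_iff_map_eq_zero]
    intro z hz
    obtain ⟨k, w, hw⟩ := IsLocalization.Away.surj f z
    have h1 := congrArg ((contrMap p j0 hj0π).appLE _ _ hpre.le).hom hw
    rw [map_mul, hz, zero_mul, hres, hcomm, ← hresV, ← map_zero (algebraMap Γ(𝒜.toQCAlg.spec, (𝒜.toQCAlg.π ≫ p) ⁻¹ᵁ U) _)] at h1
    obtain ⟨m, hm⟩ := IsLocalization.Away.exists_of_eq σ h1.symm
    rw [mul_zero] at hm
    have h2 := mul_eq_zero_of p j0 hj0π U f (f ^ m * w) hf0 (by rw [map_mul, map_pow, hf, hm])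
    have hu := IsLocalization.Away.algebraMap_isUnit (S := Γ(contr p j0 hj0π, (contr p j0 hj0π).basicOpen f)) f
    refine (((hu.mul (hu.pow m)).mul (hu.pow k)).mul_right_eq_zero).mp ?_
    have e : ∀ A B Cc : Γ(contr p j0 hj0π, (contr p j0 hj0π).basicOpen f), A * B * Cc * z = A * B * (z * Cc) :=
      fun A B Cc => by ring
    rw [e, hw, ← map_pow, ← map_mul, ← map_mul, mul_assoc, h2, map_zero]
  · intro y
    obtain ⟨k, b, hb⟩ := IsLocalization.Away.surj σ y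
    obtain ⟨w, hw, -⟩ := exists_mul p j0 hj0π U f hf0 b
    have hu := IsLocalization.Away.algebraMap_isUnit (S := Γ(contr p j0 hj0π, (contr p j0 hj0π).basicOpen f)) f
    obtain ⟨u, hu'⟩ := hu.pow (k + 1)
    refine ⟨algebraMap _ _ w * ↑u⁻¹, ?_⟩
    have hσu := IsLocalization.Away.algebraMap_isUnit (S := Γ(𝒜.toQCAlg.spec, 𝒜.toQCAlg.spec.basicOpen σ)) σ
    refine (hσu.pow (k + 1)).mul_left_inj.mp ?_
    have hf' : ((contrMap p j0 hj0π).appLE _ _ hpre.le).hom (u : Γ(contr p j0 hj0π, (contr p j0 hj0π).basicOpen f)) =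
        algebraMap _ _ σ ^ (k + 1) := by
      rw [hu', map_pow, hres, hcomm, hf, hresV]
    rw [map_mul, mul_assoc, ← hf', ← map_mul, Units.inv_mul, map_one, mul_one, hres, hcomm, hw, hf, ← hresV, map_mul,
      ← hb, hf', pow_succ]
    ring

include hL hLq hA h0 haug hj0 hV0 in
theorem isOpenImmersion_contr (hamp : RelAmple.IsRelAmple p L) : IsOpenImmersion (V0.ι ≫ contrMap p j0 hj0π) := by
  choose U hU n hn a f hxa haff hf hf0 using exists_sigma p j0 hj0π hL hLq hA h0 aug haug hj0 hamp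
  refine IsZariskiLocalAtTarget.of_range_subset_iSup (P := @IsOpenImmersion)
    (fun x : X => (contr p j0 hj0π).basicOpen (f x)) ?_ fun x => ?_
  · rintro _ ⟨v, rfl⟩
    refine Opens.mem_iSup.mpr ⟨𝒜.toQCAlg.π v.1, ?_⟩
    show contrMap p j0 hj0π (V0.ι v) ∈ _
    have h1 := (mem_sigma_iff p j0 hL hLq hA h0 aug haug hj0 (a (𝒜.toQCAlg.π v.1)) (hn _) v.1).mpr
      ⟨hxa _, hV0.le v.2⟩
    rw [← hf, ← (preimage_basicOpen_le p j0 hj0π V0 hV0 (hU _) (f _)).1] at h1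
    exact h1
  · rw [morphismRestrict_comp]
    haveI := isIso_over_basicOpen p j0 hj0π hL hLq hA h0 aug haug hj0 V0 hV0 (hU x) (hn x) (a x) (haff x) (f x) (hf x) (hf0 x)
    infer_instance

include hV0 in
theorem disjoint_vertex (hL : PicF.IsInvertible L) (hLq : Coh.IsQCoh L) (hA : RelProj.IsGrSymAlg L 𝒜 j)
    (h0 : RelCone.StrZeroBij 𝒜) (aug : 𝒜.toQCAlg ⟶ RelSpec.QCAlg.unit X) (haug : RelCone.IsAugmentation 𝒜 aug)
    (hj0 : RelCone.IsVertex 𝒜 aug j0) (hamp : RelAmple.IsRelAmple p L) :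
    Set.range (V0.ι ≫ contrMap p j0 hj0π) ∩ Set.range (contrVertex p j0 hj0π) = ∅ := by
  refine Set.eq_empty_iff_forall_notMem.mpr ?_
  rintro _ ⟨⟨v, rfl⟩, y, hy⟩
  obtain ⟨U, hU, n, hn, a, f, hxa, -, hf, hf0⟩ :=
    exists_sigma p j0 hj0π hL hLq hA h0 aug haug hj0 hamp (𝒜.toQCAlg.π v.1)
  have h1 := (mem_sigma_iff p j0 hL hLq hA h0 aug haug hj0 a hn v.1).mpr ⟨hxa, hV0.le v.2⟩
  rw [← hf, ← (preimage_basicOpen_le p j0 hj0π V0 hV0 hU f).1] at h1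
  have hmem : y ∈ contrVertex p j0 hj0π ⁻¹ᵁ (contr p j0 hj0π).basicOpen f := by
    show contrVertex p j0 hj0π y ∈ (contr p j0 hj0π).basicOpen f
    rw [hy, Scheme.Hom.comp_apply]
    exact h1
  have hle : (𝟙 Y) ⁻¹ᵁ U ≤ contrVertex p j0 hj0π ⁻¹ᵁ (contrπ p j0 hj0π ⁻¹ᵁ U) :=
    (RelSpecX.preimage_eq _ _ _ (contrVertex_comp p j0 hj0π) U).le
  have hyU : y ∈ U :=
    (RelSpecX.preimage_eq _ _ _ (contrVertex_comp p j0 hj0π) U).ge ((contr p j0 hj0π).basicOpen_le f hmem)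
  have h2 : y ∈ Y.basicOpen (toBase p j0 hj0π U f) := by
    have e : toBase p j0 hj0π U f = ((contrVertex p j0 hj0π).appLE _ ((𝟙 Y) ⁻¹ᵁ U) hle).hom f :=
      (congrArg (fun k => CommRingCat.Hom.hom k f) (RelSpecX.appLE_ofAlgHom _ _ (εAlg p j0 hj0π) ⟨U, hU⟩ hle)).symm
    rw [e]
    show y ∈ Scheme.basicOpen Y (U := (𝟙 Y : Y ⟶ Y) ⁻¹ᵁ U) _
    rw [Scheme.Hom.appLE, CommRingCat.comp_apply]
    erw [Scheme.basicOpen_res]
    rw [← Scheme.preimage_basicOpen]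
    exact ⟨hyU, hmem⟩
  rw [hf0, Scheme.basicOpen_zero] at h2
  exact h2.elim

include hL hLq hA h0 haug hj0 hV0 in
theorem quasiCompact_contr : QuasiCompact (V0.ι ≫ contrMap p j0 hj0π) := by
  haveI : IsAffineHom V0.ι := by
    choose N hxN e₀ he₀ using fun x : X => InvX.exists_frame hL x
    have hb : ∀ x : X, ∃ b : X.Opens, IsAffineOpen b ∧ x ∈ b ∧ b ≤ N x := fun x => by
      obtain ⟨_, ⟨b, hb, rfl⟩, hxb, hsub⟩ :=
        X.isBasis_affineOpens.exists_subset_of_mem_open (hxN x) (N x).isOpen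
      exact ⟨b, hb, hxb, hsub⟩
    choose b hb hxb hbN using hb
    refine HasAffineProperty.of_iSup_eq_top (P := @IsAffineHom)
      (fun x : X => (⟨𝒜.toQCAlg.π ⁻¹ᵁ b x, (hb x).preimage _⟩ : 𝒜.toQCAlg.spec.affineOpens))
      (eq_top_iff.mpr fun v _ => Opens.mem_iSup.mpr ⟨𝒜.toQCAlg.π v, hxb _⟩) fun x => ?_
    show IsAffineOpen (V0.ι ⁻¹ᵁ (𝒜.toQCAlg.π ⁻¹ᵁ b x))
    rw [← V0.ι.isAffineOpen_iff_of_isOpenImmersion, Scheme.Hom.image_preimage_eq_opensRange_inf,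
      Scheme.Opens.opensRange_ι]
    let τ : Γ(𝒜.toQCAlg.spec, 𝒜.toQCAlg.π ⁻¹ᵁ b x) :=
      ((inv 𝒜.toQCAlg.gammaMap).app (op (b x))).hom (show 𝒜.presheaf.obj (op (b x)) from j.app (b x) (AModX.res L (hbN x) (e₀ x)))
    suffices e : V0 ⊓ 𝒜.toQCAlg.π ⁻¹ᵁ b x = 𝒜.toQCAlg.spec.basicOpen τ by
      rw [e]; exact ((hb x).preimage _).basicOpen τ
    have he := (he₀ x).res (hbN x)
    refine SetLike.ext fun v => ?_
    constructor
    · rintro ⟨hv0, hvb⟩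
      obtain ⟨s, hs⟩ := (𝒜.toQCAlg.π_preimage (b x) (hb x)).le hvb
      rw [← hs, mem_basicOpen_iff _ (𝒜.toQCAlg.top_le_preimage (b x) (hb x))]
      intro hm
      have hnot : v ∉ Set.range j0 := hV0.le hv0
      apply hnot
      have ht := chart_mem_range_iff hLq hA h0 aug haug hj0 (hb x) he
        (Spec.map (CommRingCat.ofHom (frameEquiv hLq hA (hb x) he).toRingHom) s)
      have hval : chart hLq hA (hb x) he (Spec.map (CommRingCat.ofHom (frameEquiv hLq hA (hb x) he).toRingHom) s) = v := by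
        rw [← hs, chart, ← Scheme.Hom.comp_apply, ← Spec.map_comp_assoc, ← CommRingCat.ofHom_comp,
          RingEquiv.toRingHom_comp_symm_toRingHom]
        simp <;> rfl
      rw [hval] at ht
      refine ht.mpr ?_
      show (frameEquiv hLq hA (hb x) he) Polynomial.X ∈ s.asIdeal
      convert hm using 1
      rw [show frameEquiv hLq hA (hb x) he Polynomial.X = frameHom j (AModX.res L (hbN x) (e₀ x)) Polynomial.X from rfl,
        frameHom, coe_eval₂RingHom, eval₂_X]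
      show _ = ((inv 𝒜.toQCAlg.gammaMap).app (op (b x)) ≫ 𝒜.toQCAlg.gammaAff (b x) (hb x)).hom _
      rw [← 𝒜.toQCAlg.gammaMap_app (b x) (hb x), ← NatTrans.comp_app, IsIso.inv_hom_id]
      rfl
    · intro hv
      have hvb : v ∈ 𝒜.toQCAlg.π ⁻¹ᵁ b x := 𝒜.toQCAlg.spec.basicOpen_le _ hv
      refine ⟨?_, hvb⟩
      by_contra hv0
      have hin : v ∈ Set.range j0 := by
        by_contra hn
        exact hv0 (hV0.ge hn)
      obtain ⟨s, hs⟩ := (𝒜.toQCAlg.π_preimage (b x) (hb x)).le hvb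
      rw [← hs, mem_basicOpen_iff _ (𝒜.toQCAlg.top_le_preimage (b x) (hb x))] at hv
      have ht := chart_mem_range_iff hLq hA h0 aug haug hj0 (hb x) he
        (Spec.map (CommRingCat.ofHom (frameEquiv hLq hA (hb x) he).toRingHom) s)
      have hval : chart hLq hA (hb x) he (Spec.map (CommRingCat.ofHom (frameEquiv hLq hA (hb x) he).toRingHom) s) = v := by
        rw [← hs, chart, ← Scheme.Hom.comp_apply, ← Spec.map_comp_assoc, ← CommRingCat.ofHom_comp,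
          RingEquiv.toRingHom_comp_symm_toRingHom]
        simp <;> rfl
      rw [hval] at ht
      refine hv ?_
      have hm : (frameEquiv hLq hA (hb x) he) Polynomial.X ∈ s.asIdeal := ht.mp hin
      convert hm using 1
      rw [show frameEquiv hLq hA (hb x) he Polynomial.X = frameHom j (AModX.res L (hbN x) (e₀ x)) Polynomial.X from rfl,
        frameHom, coe_eval₂RingHom, eval₂_X]
      show ((inv 𝒜.toQCAlg.gammaMap).app (op (b x)) ≫ 𝒜.toQCAlg.gammaAff (b x) (hb x)).hom _ = _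
      rw [← 𝒜.toQCAlg.gammaMap_app (b x) (hb x), ← NatTrans.comp_app, IsIso.inv_hom_id]
      rfl
  haveI : QuasiCompact ((V0.ι ≫ contrMap p j0 hj0π) ≫ contrπ p j0 hj0π) := by
    rw [Category.assoc, contrMap_comp]
    infer_instance
  exact QuasiCompact.of_comp _ (contrπ p j0 hj0π)

end Groth.Agent.ContrX
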