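import Groth.Agent.ContrX.Proper
import Groth.Agent.Blanchard.Descend

/-!
# The universal property of the contraction over a morphism with `p_* O = O`
-/

universe u

open CategoryTheory CategoryTheory.Limits AlgebraicGeometry TopologicalSpace Opposite Polynomial
open scoped HomogeneousIdeal

set_option backward.isDefEq.respectTransparency false
set_option backward.isDefEq.respectTransparency.types false
set_option linter.style.haveILetI false
set_option linter.unusedSectionVars false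

noncomputable section

namespace Groth.Agent.ContrX

open Groth.Agent

variable {X Y : Scheme.{u}} (p : X ⟶ Y) [IsProper p] {L : X.Modules} {𝒜 : RelProj.QCGrAlg X} {j : L ⟶ 𝒜.toModule}
  (j0 : X ⟶ 𝒜.toQCAlg.spec) (hj0π : j0 ≫ 𝒜.toQCAlg.π = 𝟙 X) (hθ : IsIso p.c)

include hθ in
/-- If `p_* O_X = O_Y` the functions on the contraction are all the functions on the bundle. -/
theorem bijective_toBundle (U : Y.Opens) : Function.Bijective (toBundle p j0 hj0π U) := by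
  haveI := hθ
  haveI : IsIso (p.app U) := inferInstanceAs (IsIso (p.c.app (op U)))
  have hp : Function.Bijective (p.app U).hom := ConcreteCategory.bijective_of_isIso (p.app U)
  refine ⟨?_, fun σ => ?_⟩
  · rw [injective_iff_map_eq_zero]
    intro f hf
    refine contr_ext p j0 hj0π U (by rw [hf, map_zero]) (hp.1 ?_)
    rw [← zero_toBundle p j0 hj0π U f, hf, map_zero, map_zero, map_zero]
  · obtain ⟨r, hr⟩ := hp.2 ((j0.appLE ((𝒜.toQCAlg.π ≫ p) ⁻¹ᵁ U) (p ⁻¹ᵁ U) (zeroSec_le p j0 hj0π U)).hom σ)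
    obtain ⟨f, hf, -⟩ := exists_elt_contr p j0 hj0π U σ r hr.symm
    exact ⟨f, hf⟩

include hθ in
theorem isIso_qAlg : IsIso (qAlg p j0 hj0π).1 := by
  haveI : ∀ U, IsIso ((qAlg p j0 hj0π).1.app U) := fun U =>
    (ConcreteCategory.isIso_iff_bijective _).mpr (bijective_toBundle p j0 hj0π hθ U.unop)
  exact NatIso.isIso_of_isIso_app _

include hθ in
/-- The contraction preserves functions. -/
theorem isoOnBasis_contrMap : Blanchard.IsoOnBasis (contrMap p j0 hj0π) := by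
  intro c W hcW
  obtain ⟨_, ⟨U, hU, rfl⟩, hcU, -⟩ :=
    Y.isBasis_affineOpens.exists_subset_of_mem_open (Set.mem_univ (contrπ p j0 hj0π c)) isOpen_univ
  have hT : IsAffineOpen (contrπ p j0 hj0π ⁻¹ᵁ U) := hU.preimage _
  obtain ⟨f, hfW, hcf⟩ := hT.exists_basicOpen_le (V := W) ⟨c, hcW⟩ hcU
  refine ⟨_, hcf, hfW, ?_⟩
  set σ := toBundle p j0 hj0π U f with hσ
  set D := (contr p j0 hj0π).basicOpen f with hD
  haveI := hT.isLocalization_basicOpen f
  have hpre : 𝒜.toQCAlg.spec.basicOpen σ = contrMap p j0 hj0π ⁻¹ᵁ D := by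
    rw [hσ, ← appLE_contrMap p j0 hj0π U hU, Scheme.Hom.appLE, CommRingCat.comp_apply, Scheme.basicOpen_res,
      ← Scheme.preimage_basicOpen, inf_eq_right]
    exact fun v hv => (RelSpecX.preimage_eq _ _ _ (contrMap_comp p j0 hj0π) U).ge
      ((contr p j0 hj0π).basicOpen_le f hv)
  have hcompact : IsCompact (((𝒜.toQCAlg.π ≫ p) ⁻¹ᵁ U : 𝒜.toQCAlg.spec.Opens) : Set 𝒜.toQCAlg.spec) :=
    (𝒜.toQCAlg.π ≫ p).isCompact_preimage hU.isCompact
  have hqs : IsQuasiSeparated (((𝒜.toQCAlg.π ≫ p) ⁻¹ᵁ U : 𝒜.toQCAlg.spec.Opens) : Set 𝒜.toQCAlg.spec) :=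
    (𝒜.toQCAlg.π ≫ p).isQuasiSeparated_preimage hU.isQuasiSeparated
  haveI := isLocalization_basicOpen_of_qcqs hcompact hqs σ
  letI : Algebra Γ(𝒜.toQCAlg.spec, (𝒜.toQCAlg.π ≫ p) ⁻¹ᵁ U) Γ(𝒜.toQCAlg.spec, 𝒜.toQCAlg.spec.basicOpen σ) :=
    (𝒜.toQCAlg.spec.presheaf.map (homOfLE (𝒜.toQCAlg.spec.basicOpen_le σ)).op).hom.toAlgebra
  let Ψ := IsLocalization.Away.map Γ(contr p j0 hj0π, D) Γ(𝒜.toQCAlg.spec, 𝒜.toQCAlg.spec.basicOpen σ)
    (toBundle p j0 hj0π U) f
  have hΨ : Function.Bijective Ψ := by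
    refine ⟨IsLocalization.map_injective_of_injective _ _ _ (bijective_toBundle p j0 hj0π hθ U).1, fun z => ?_⟩
    obtain ⟨k, b, hb⟩ := IsLocalization.Away.surj σ z
    obtain ⟨w, rfl⟩ := (bijective_toBundle p j0 hj0π hθ U).2 b
    obtain ⟨v, hv⟩ := (IsLocalization.Away.algebraMap_isUnit (S := Γ(contr p j0 hj0π, D)) f).pow k
    refine ⟨algebraMap _ _ w * ↑v⁻¹, ?_⟩
    refine ((IsLocalization.Away.algebraMap_isUnit σ).pow k).mul_left_inj.mp ?_
    have hvΨ : Ψ (v : Γ(contr p j0 hj0π, D)) = algebraMap _ _ σ ^ k := by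
      rw [hv, map_pow, show Ψ (algebraMap _ _ f) = _ from IsLocalization.map_eq _ f]
    rw [hb, map_mul, mul_assoc, ← hvΨ, ← map_mul, Units.inv_mul, map_one, mul_one,
      show Ψ (algebraMap _ _ w) = _ from IsLocalization.map_eq _ w]
  have heq : ((contrMap p j0 hj0π).appLE D (𝒜.toQCAlg.spec.basicOpen σ) hpre.le).hom = Ψ := by
    refine IsLocalization.ringHom_ext (Submonoid.powers f) (RingHom.ext fun w => ?_)
    show _ = Ψ (algebraMap _ _ w)
    rw [show Ψ (algebraMap _ _ w) = algebraMap _ _ (toBundle p j0 hj0π U w) from IsLocalization.map_eq _ w]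
    show ((contrMap p j0 hj0π).appLE _ _ hpre.le).hom
      (((contr p j0 hj0π).presheaf.map (homOfLE ((contr p j0 hj0π).basicOpen_le f)).op).hom w) =
        (𝒜.toQCAlg.spec.presheaf.map (homOfLE (𝒜.toQCAlg.spec.basicOpen_le σ)).op).hom (toBundle p j0 hj0π U w)
    rw [← appLE_contrMap p j0 hj0π U hU, ← CommRingCat.comp_apply, ← CommRingCat.comp_apply,
      Scheme.Hom.map_appLE, Scheme.Hom.appLE_map]
  have happ : IsIso ((contrMap p j0 hj0π).appLE D (𝒜.toQCAlg.spec.basicOpen σ) hpre.le) :=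
    (ConcreteCategory.isIso_iff_bijective _).mpr (by
      show Function.Bijective ((contrMap p j0 hj0π).appLE D (𝒜.toQCAlg.spec.basicOpen σ) hpre.le).hom
      rw [heq]; exact hΨ)
  rw [Scheme.Hom.app_eq_appLE]
  exact (Scheme.Hom.appLE_congr _ hpre.le rfl hpre (fun k => IsIso k)).mp happ

include hθ in
theorem isoOnBasis_self : Blanchard.IsoOnBasis p :=
  haveI := hθ
  Blanchard.isoOnBasis_of_forall fun U => inferInstanceAs (IsIso (p.c.app (op U)))

variable (hL : PicF.IsInvertible L) (hLq : Coh.IsQCoh L) (hA : RelProj.IsGrSymAlg L 𝒜 j)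
  (h0 : RelCone.StrZeroBij 𝒜) (aug : 𝒜.toQCAlg ⟶ RelSpec.QCAlg.unit X)
  (haug : RelCone.IsAugmentation 𝒜 aug) (hj0 : RelCone.IsVertex 𝒜 aug j0)

include hj0π in
/-- The complement of the zero section. -/
def zeroCompl : 𝒜.toQCAlg.spec.Opens :=
  ⟨(Set.range j0)ᶜ, by
    haveI : IsClosedImmersion (j0 ≫ 𝒜.toQCAlg.π) := by rw [hj0π]; infer_instance
    haveI : IsClosedImmersion j0 := IsClosedImmersion.of_comp _ 𝒜.toQCAlg.π
    exact j0.isClosedEmbedding.isClosed_range.isOpen_compl⟩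

include hL hLq hA h0 haug hj0 in
/-- Where the contraction identifies two points, they lie on the zero section. -/
theorem eq_or_mem_range (hamp : RelAmple.IsRelAmple p L) {a b : 𝒜.toQCAlg.spec}
    (h : contrMap p j0 hj0π a = contrMap p j0 hj0π b) :
    a = b ∨ ∃ x x', j0 x = a ∧ j0 x' = b ∧ p x = p x' := by
  let V0 := zeroCompl j0 hj0π
  have hV0 : (V0 : Set 𝒜.toQCAlg.spec) = (Set.range j0)ᶜ := rfl
  haveI := isOpenImmersion_contr p j0 hj0π hL hLq hA h0 aug haug hj0 V0 hV0 hamp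
  have hd := Set.eq_empty_iff_forall_notMem.mp (disjoint_vertex p j0 hj0π V0 hV0 hL hLq hA h0 aug haug hj0 hamp)
  have hvert : ∀ x, contrMap p j0 hj0π (j0 x) = contrVertex p j0 hj0π (p x) := fun x => by
    rw [← Scheme.Hom.comp_apply, zero_contrMap, Scheme.Hom.comp_apply]
  by_cases ha : a ∈ Set.range j0
  · obtain ⟨x, rfl⟩ := ha
    by_cases hb : b ∈ Set.range j0
    · obtain ⟨x', rfl⟩ := hb
      refine .inr ⟨x, x', rfl, rfl, ?_⟩
      rw [hvert, hvert] at h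
      have h' := congrArg (contrπ p j0 hj0π) h
      simp only [← Scheme.Hom.comp_apply, Category.assoc, contrVertex_comp, Category.comp_id] at h'
      exact h'
    · exact (hd _ ⟨⟨⟨b, hb⟩, rfl⟩, ⟨p x, (hvert x).symm.trans h⟩⟩).elim
  · by_cases hb : b ∈ Set.range j0
    · obtain ⟨x', rfl⟩ := hb
      exact (hd _ ⟨⟨⟨a, ha⟩, rfl⟩, ⟨p x', (hvert x').symm.trans h.symm⟩⟩).elim
    · exact .inl (congrArg Subtype.val
        ((V0.ι ≫ contrMap p j0 hj0π).isOpenEmbedding.injective (a₁ := ⟨a, ha⟩) (a₂ := ⟨b, hb⟩) h))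

include hθ hL hLq hA h0 haug hj0 in
/-- Every contraction of the zero section factors uniquely through the canonical one. -/
theorem existsUnique_factor (hamp : RelAmple.IsRelAmple p L) {C : Scheme.{u}} (g : C ⟶ Y) (ε : Y ⟶ C)
    (q : 𝒜.toQCAlg.spec ⟶ C) (hqg : q ≫ g = 𝒜.toQCAlg.π ≫ p) (hjq : j0 ≫ q = p ≫ ε) :
    ∃! v : contr p j0 hj0π ⟶ C, v ≫ g = contrπ p j0 hj0π ∧ contrMap p j0 hj0π ≫ v = q := by
  haveI := isProper_contrMap p j0 hj0π hL hLq hA h0 aug haug hj0 hamp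
  have hiso := isoOnBasis_contrMap p j0 hj0π hθ
  obtain ⟨v, hv, huniq⟩ := Blanchard.exists_factor hiso q fun a b hab => by
    rcases eq_or_mem_range p j0 hj0π hL hLq hA h0 aug haug hj0 hamp hab with rfl | ⟨x, x', rfl, rfl, hp⟩
    · rfl
    · rw [← Scheme.Hom.comp_apply, ← Scheme.Hom.comp_apply, hjq, Scheme.Hom.comp_apply, Scheme.Hom.comp_apply, hp]
  haveI := GITQuot.epi_of_surjective_of_app_injective (contrMap p j0 hj0π) hiso.surjective hiso.app_injective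
  exact ⟨v, ⟨by rw [← cancel_epi (contrMap p j0 hj0π), reassoc_of% hv, hqg, contrMap_comp], hv⟩,
    fun w hw => huniq w hw.2⟩

include hθ in
/-- The relative spectrum of the direct image is the contraction. -/
theorem exists_iso_directImage (q' : 𝒜.toQCAlg.spec ⟶ (RelSpec.QCAlg.directImage (𝒜.toQCAlg.π ≫ p)).spec)
    (hq'π : q' ≫ (RelSpec.QCAlg.directImage (𝒜.toQCAlg.π ≫ p)).π = 𝒜.toQCAlg.π ≫ p)
    (hq' : AffAlg.algHom (RelSpec.QCAlg.directImage (𝒜.toQCAlg.π ≫ p)).π (𝒜.toQCAlg.π ≫ p) q' hq'π =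
      (RelSpec.QCAlg.directImage (𝒜.toQCAlg.π ≫ p)).gammaMap) :
    ∃ e : (RelSpec.QCAlg.directImage (𝒜.toQCAlg.π ≫ p)).spec ≅ contr p j0 hj0π,
      e.hom ≫ contrπ p j0 hj0π = (RelSpec.QCAlg.directImage (𝒜.toQCAlg.π ≫ p)).π ∧
        q' ≫ e.hom = contrMap p j0 hj0π := by
  haveI := isIso_qAlg p j0 hj0π hθ
  haveI := RelSpecX.isIso_gammaMap (RelSpec.QCAlg.directImage (𝒜.toQCAlg.π ≫ p))
  let ω : AffAlg.algHoms (contrπ p j0 hj0π) (RelSpec.QCAlg.directImage (𝒜.toQCAlg.π ≫ p)).π :=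
    ⟨(qAlg p j0 hj0π).1 ≫ inv (RelSpec.QCAlg.directImage (𝒜.toQCAlg.π ≫ p)).gammaMap, by
      refine (Category.assoc _ _ _).symm.trans ?_
      rw [(qAlg p j0 hj0π).2]
      refine (IsIso.comp_inv_eq (RelSpec.QCAlg.directImage (𝒜.toQCAlg.π ≫ p)).gammaMap).mpr ?_
      exact (RelSpec.QCAlg.directImage (𝒜.toQCAlg.π ≫ p)).π_c_gammaMap.symm⟩
  let e := RelSpecX.ofAlgHom _ _ ω
  have he : e ≫ contrπ p j0 hj0π = (RelSpec.QCAlg.directImage (𝒜.toQCAlg.π ≫ p)).π :=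
    RelSpecX.ofAlgHom_comp _ _ ω
  haveI : IsIso e := by
    refine (RelSpecX.isIso_iff _ _ e he).mpr ?_
    rw [RelSpecX.algHom_ofAlgHom]
    infer_instance
  refine ⟨asIso e, he, ?_⟩
  refine RelSpecX.algHom_injective (contrπ p j0 hj0π) (𝒜.toQCAlg.π ≫ p)
    (show (q' ≫ e) ≫ _ = _ by rw [Category.assoc, he, hq'π]) (contrMap_comp p j0 hj0π) fun U => ?_
  refine NatTrans.congr_app ?_ (op U.1)
  refine Eq.trans ?_ (RelSpecX.algHom_ofAlgHom _ _ (qAlg p j0 hj0π)).symm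
  refine (RelSpecX.algHom_comp (contrπ p j0 hj0π) _ (𝒜.toQCAlg.π ≫ p) e he q' hq'π).trans ?_
  rw [RelSpecX.algHom_ofAlgHom, hq']
  exact (Category.assoc _ _ _).trans ((congrArg _ (IsIso.inv_hom_id _)).trans (Category.comp_id _))

end Groth.Agent.ContrX
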