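import Groth.Agent.ContrX.Factor
import Groth.Agent.MorLib.UnivHomeo
import Groth.Agent.Proj16.NormalExt
import Groth.Prelude.Def_Pi1
import Mathlib.AlgebraicGeometry.Morphisms.UniversallyInjective
import Mathlib.AlgebraicGeometry.Properties

/-!
# Properties of the factor of a contraction
-/

universe u

open CategoryTheory CategoryTheory.Limits AlgebraicGeometry TopologicalSpace Opposite

set_option backward.isDefEq.respectTransparency false
set_option backward.isDefEq.respectTransparency.types false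
set_option linter.style.haveILetI false
set_option linter.unusedSectionVars false

noncomputable section

namespace Groth.Agent.ContrX

open Groth.Agent

/-- A point with values in a field whose image lies in a closed subscheme factors through it. -/
theorem exists_point_lift {Y C : Scheme.{u}} (ε : Y ⟶ C) [IsClosedImmersion ε] {K : Type u} [Field K]
    (a : Spec (.of K) ⟶ C) (h : a (IsLocalRing.closedPoint K) ∈ Set.range ε) : ∃ a', a' ≫ ε = a := by
  haveI : IsClosedImmersion (pullback.snd ε a) := MorphismProperty.pullback_snd _ _ inferInstance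
  haveI : Surjective (pullback.snd ε a) := ⟨fun t => by
    obtain rfl : t = IsLocalRing.closedPoint K := Subsingleton.elim _ _
    obtain ⟨y, hy⟩ := h
    obtain ⟨z, -, hz⟩ := Scheme.Pullback.exists_preimage_pullback (f := ε) (g := a) y _ hy
    exact ⟨z, hz⟩⟩
  haveI := isIso_of_isClosedImmersion_of_surjective (pullback.snd ε a)
  exact ⟨inv (pullback.snd ε a) ≫ pullback.fst ε a, by
    rw [Category.assoc, pullback.condition, IsIso.inv_hom_id_assoc]⟩

variable {V Y C C' : Scheme.{u}} (g : C ⟶ Y) (ε : Y ⟶ C) (π' : C' ⟶ Y) (ε' : Y ⟶ C') (q : V ⟶ C) (q' : V ⟶ C')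
  (u : C' ⟶ C) (V0 : V.Opens)

/-- The hypotheses: `u` maps one contraction to the other. -/
structure IsFactor : Prop where
  ε_g : ε ≫ g = 𝟙 Y
  ε_π : ε' ≫ π' = 𝟙 Y
  u_g : u ≫ g = π'
  q_u : q' ≫ u = q
  ε_u : ε' ≫ u = ε
  proper : IsProper q
  sep : IsSeparated π'
  surj : Surjective q'
  open' : IsOpenImmersion (V0.ι ≫ q')
  range' : Set.range (V0.ι ≫ q') = (Set.range ε')ᶜ
  openC : IsOpenImmersion (V0.ι ≫ q)
  rangeC : Set.range (V0.ι ≫ q) = (Set.range ε)ᶜ

variable {g ε π' ε' q q' u V0} (H : IsFactor g ε π' ε' q q' u V0)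

include H

theorem IsFactor.universallyClosed : UniversallyClosed u := by
  haveI := H.proper
  haveI := H.surj
  haveI : UniversallyClosed (q' ≫ u) := by rw [H.q_u]; infer_instance
  exact UniversallyClosed.of_comp_surjective q' u

theorem IsFactor.surjective : Function.Surjective u := by
  intro c
  by_cases hc : c ∈ Set.range ε
  · obtain ⟨y, rfl⟩ := hc
    exact ⟨ε' y, by rw [← Scheme.Hom.comp_apply, H.ε_u]⟩
  · obtain ⟨v, hv⟩ := H.rangeC.ge hc
    refine ⟨q' (V0.ι v), ?_⟩
    rw [← Scheme.Hom.comp_apply, H.q_u]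
    exact hv

theorem IsFactor.not_mem_range (a : C') : u a ∈ Set.range ε ↔ a ∈ Set.range ε' := by
  constructor
  · intro ha
    by_contra hn
    obtain ⟨v, rfl⟩ := H.range'.ge hn
    have : u ((V0.ι ≫ q') v) ∈ (Set.range ε)ᶜ := by
      refine H.rangeC.le ⟨v, ?_⟩
      rw [← Scheme.Hom.comp_apply, Category.assoc, H.q_u]
    exact this ha
  · rintro ⟨y, rfl⟩
    exact ⟨y, by rw [← Scheme.Hom.comp_apply, H.ε_u]⟩

/-- The restriction to an open subscheme with range the image of the complement. -/
theorem IsFactor.restrict (W : C'.Opens) (hW : (W : Set C') = (Set.range ε')ᶜ) :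
    IsOpenImmersion (W.ι ≫ u) ∧ Set.range (W.ι ≫ u) = (Set.range ε)ᶜ := by
  haveI := H.open'
  haveI := H.openC
  have e : Set.range W.ι = Set.range (V0.ι ≫ q') := by
    rw [W.range_ι, H.range', hW]
  have h : W.ι ≫ u = (IsOpenImmersion.isoOfRangeEq W.ι (V0.ι ≫ q') e).hom ≫ V0.ι ≫ q := by
    rw [← H.q_u, ← Category.assoc V0.ι, IsOpenImmersion.isoOfRangeEq_hom_fac_assoc]
  rw [h]
  refine ⟨inferInstance, ?_⟩
  rw [← H.rangeC]
  exact Set.Subset.antisymm (Set.range_comp_subset_range _ (V0.ι ≫ q))
    fun c ⟨v, hv⟩ => ⟨(IsOpenImmersion.isoOfRangeEq W.ι (V0.ι ≫ q') e).inv v, by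
      rw [← Scheme.Hom.comp_apply, Iso.inv_hom_id_assoc]; exact hv⟩

theorem IsFactor.universallyInjective : UniversallyInjective u := by
  haveI := H.sep
  haveI : IsClosedImmersion (ε' ≫ π') := by rw [H.ε_π]; infer_instance
  haveI : IsClosedImmersion ε' := IsClosedImmersion.of_comp _ π'
  refine ((tfae_universallyInjective u).out 0 1).mpr ?_
  intro K instK a b hab
  letI : Field K := instK
  change a ≫ u = b ≫ u at hab
  have hπ : a ≫ π' = b ≫ π' := by
    rw [← H.u_g]
    exact (Category.assoc _ _ _).symm.trans ((congrArg (· ≫ g) hab).trans (Category.assoc _ _ _))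
  have hpt : u (a (IsLocalRing.closedPoint K)) = u (b (IsLocalRing.closedPoint K)) := by
    rw [← Scheme.Hom.comp_apply, ← Scheme.Hom.comp_apply]
    exact congrArg (fun k : Spec (.of K) ⟶ C => k (IsLocalRing.closedPoint K)) hab
  by_cases ha : a (IsLocalRing.closedPoint K) ∈ Set.range ε'
  · have hb : b (IsLocalRing.closedPoint K) ∈ Set.range ε' :=
      (H.not_mem_range _).mp (hpt ▸ (H.not_mem_range _).mpr ha)
    obtain ⟨a', rfl⟩ := exists_point_lift ε' a ha
    obtain ⟨b', rfl⟩ := exists_point_lift ε' b hb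
    rw [Category.assoc, Category.assoc, H.ε_π, Category.comp_id, Category.comp_id] at hπ
    rw [hπ]
  · have hb : b (IsLocalRing.closedPoint K) ∉ Set.range ε' :=
      fun hb => ha ((H.not_mem_range _).mp (hpt.symm ▸ (H.not_mem_range _).mpr hb))
    let W : C'.Opens := ⟨(Set.range ε')ᶜ, ε'.isClosedEmbedding.isClosed_range.isOpen_compl⟩
    have hWa : Set.range a ⊆ Set.range W.ι := by
      rintro _ ⟨t, rfl⟩
      rw [W.range_ι, Subsingleton.elim t (IsLocalRing.closedPoint K)]
      exact ha
    have hWb : Set.range b ⊆ Set.range W.ι := by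
      rintro _ ⟨t, rfl⟩
      rw [W.range_ι, Subsingleton.elim t (IsLocalRing.closedPoint K)]
      exact hb
    haveI := (H.restrict W rfl).1
    rw [← IsOpenImmersion.lift_fac W.ι a hWa, ← IsOpenImmersion.lift_fac W.ι b hWb]
    congr 1
    rw [← cancel_mono (W.ι ≫ u), IsOpenImmersion.lift_fac_assoc, IsOpenImmersion.lift_fac_assoc]
    exact hab

/-- If the source is integral and the target normal the factor is an isomorphism. -/
theorem IsFactor.isIso_of_normal [IsIntegral V] [IsReduced C'] [Nonempty V0] (hC : Pi1.IsNormalScheme C) :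
    IsIso u := by
  haveI := H.universallyClosed
  haveI := H.universallyInjective
  haveI : Surjective u := ⟨H.surjective⟩
  haveI := H.surj
  haveI := H.sep
  haveI : IsClosedImmersion (ε' ≫ π') := by rw [H.ε_π]; infer_instance
  haveI : IsClosedImmersion ε' := IsClosedImmersion.of_comp _ π'
  haveI : IrreducibleSpace C' := Function.Surjective.irreducibleSpace q'.continuous q'.surjective
  haveI : IrreducibleSpace C := Function.Surjective.irreducibleSpace u.continuous u.surjective
  haveI : ∀ c : C, _root_.IsReduced (C.presheaf.stalk c) := fun c => by haveI := (hC c).1; infer_instance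
  haveI : IsReduced C := isReduced_of_isReduced_stalk C
  haveI : IsIntegral C := isIntegral_of_irreducibleSpace_of_isReduced C
  haveI : IsIntegral C' := isIntegral_of_irreducibleSpace_of_isReduced C'
  haveI : IsIntegralHom u := MorLib.isIntegralHom_of_isUnivHomeo (MorLib.isUnivHomeo_of_universallyClosed u)
  let W : C'.Opens := ⟨(Set.range ε')ᶜ, ε'.isClosedEmbedding.isClosed_range.isOpen_compl⟩
  obtain ⟨hWo, hWr⟩ := H.restrict W rfl
  haveI := hWo
  let D : C.Opens := (W.ι ≫ u).opensRange
  have hD : Dense (D : Set C) := by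
    refine D.isOpen.dense ?_
    obtain ⟨v⟩ := ‹Nonempty V0›
    exact ⟨u ((V0.ι ≫ q') v), ⟨⟨(V0.ι ≫ q') v, H.range'.le ⟨v, rfl⟩⟩, rfl⟩⟩
  have e : Set.range D.ι = Set.range (W.ι ≫ u) := D.range_ι
  obtain ⟨δ, hδ⟩ := Proj16.exists_genericLift D hD
  refine Proj16.isIso_of_isIntegralHom hC u (δ ≫ (IsOpenImmersion.isoOfRangeEq D.ι (W.ι ≫ u) e).hom ≫ W.ι) ?_
  rw [Category.assoc, Category.assoc, IsOpenImmersion.isoOfRangeEq_hom_fac, hδ]

end Groth.Agent.ContrX
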