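import Mathlib.AlgebraicGeometry.Properties
import Mathlib.RingTheory.Ideal.Quotient.Operations
import Mathlib.RingTheory.Polynomial.Basic

/-!
# Taylor coefficients along the zero section of a line
-/

universe u

open CategoryTheory AlgebraicGeometry TopologicalSpace Opposite Polynomial

set_option backward.isDefEq.respectTransparency false
set_option backward.isDefEq.respectTransparency.types false

noncomputable section

namespace Groth.Agent.ContrX

variable {V : Scheme.{u}} {O : V.Opens}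

/-- The pullback of a section along a morphism from an affine scheme landing in its domain. -/
def pull {S : CommRingCat.{u}} (c : Spec S ⟶ V) (hc : ⊤ ≤ c ⁻¹ᵁ O) (F : Γ(V, O)) : S :=
  (Scheme.ΓSpecIso S).hom.hom ((c.appLE O ⊤ hc).hom F)

lemma pull_congr {S : CommRingCat.{u}} {c c' : Spec S ⟶ V} (e : c = c') (hc : ⊤ ≤ c ⁻¹ᵁ O) (F : Γ(V, O)) :
    pull c hc F = pull c' (e ▸ hc) F := by
  subst e; rfl

lemma pull_comp {S T : CommRingCat.{u}} (φ : S ⟶ T) (c : Spec S ⟶ V) (hc : ⊤ ≤ c ⁻¹ᵁ O)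
    (hc' : ⊤ ≤ (Spec.map φ ≫ c) ⁻¹ᵁ O) (F : Γ(V, O)) :
    pull (Spec.map φ ≫ c) hc' F = φ.hom (pull c hc F) := by
  rw [pull, pull, ← CommRingCat.comp_apply, ← CommRingCat.comp_apply, ← CommRingCat.comp_apply]
  refine congrArg (fun k : Γ(V, O) ⟶ T => k.hom F) ?_
  rw [← Scheme.Hom.appLE_comp_appLE (Spec.map φ) c O ⊤ ⊤ hc le_rfl, Category.assoc]
  congr 1
  show (Spec.map φ).appLE ⊤ (Spec.map φ ⁻¹ᵁ ⊤) le_rfl ≫ _ = _
  rw [Scheme.Hom.appLE_eq_app]
  exact Scheme.ΓSpecIso_naturality φ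

lemma mem_basicOpen_iff {S : CommRingCat.{u}} (c : Spec S ⟶ V) (hc : ⊤ ≤ c ⁻¹ᵁ O) (F : Γ(V, O)) (t : Spec S) :
    c t ∈ V.basicOpen F ↔ pull c hc F ∉ t.asIdeal := by
  have h2 : PrimeSpectrum.basicOpen (pull c hc F) = (Spec S).basicOpen ((c.appLE O ⊤ hc).hom F) :=
    (basicOpen_eq_of_affine' ((c.appLE O ⊤ hc).hom F)).symm
  refine Iff.trans ?_ (SetLike.ext_iff.mp h2 t).symm
  rw [Scheme.Hom.appLE, CommRingCat.comp_apply, Scheme.basicOpen_res, ← Scheme.preimage_basicOpen]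
  exact ⟨fun h => ⟨trivial, h⟩, fun h => h.2⟩

/-- Scaling the variable and changing the coefficients. -/
def scale {R R' : Type u} [CommRing R] [CommRing R'] (θ : R →+* R') (a : R') : R[X] →+* R'[X] :=
  eval₂RingHom (C.comp θ) (C a * X)

lemma coeff_scale {R R' : Type u} [CommRing R] [CommRing R'] (θ : R →+* R') (a : R') (p : R[X]) (n : ℕ) :
    (scale θ a p).coeff n = θ (p.coeff n) * a ^ n := by
  induction p using Polynomial.induction_on' with
  | add p q hp hq => rw [map_add, coeff_add, hp, hq, coeff_add, map_add, add_mul]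
  | monomial m r =>
    rw [scale, coe_eval₂RingHom, eval₂_monomial, RingHom.comp_apply, mul_pow, ← C_pow, ← mul_assoc, ← C_mul,
      C_mul_X_pow_eq_monomial, coeff_monomial, coeff_monomial]
    split
    · subst_vars; rfl
    · rw [map_zero, zero_mul]

variable {R : Type u} [CommRing R]

/-- The coefficient of a jet. -/
def jetLin (n : ℕ) : R[X] ⧸ Ideal.span {(X : R[X]) ^ (n + 1)} →+ R :=
  QuotientAddGroup.lift (Submodule.toAddSubgroup (Ideal.span {(X : R[X]) ^ (n + 1)})) (lcoeff R n).toAddMonoidHom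
    fun p hp => by
      obtain ⟨q, rfl⟩ := Ideal.mem_span_singleton'.mp hp
      show (q * X ^ (n + 1)).coeff n = 0
      rw [coeff_mul_X_pow', if_neg (by omega)]

lemma jetLin_mk (n : ℕ) (p : R[X]) : jetLin n (Ideal.Quotient.mk _ p) = p.coeff n := rfl

/-- The infinitesimal neighbourhood of the origin. -/
def nbhd (R : Type u) [CommRing R] (n : ℕ) :
    Spec (CommRingCat.of (R[X] ⧸ Ideal.span {(X : R[X]) ^ (n + 1)})) ⟶ Spec (CommRingCat.of R[X]) :=
  Spec.map (CommRingCat.ofHom (Ideal.Quotient.mk _))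

lemma X_mem_nbhd (n : ℕ) (t : Spec (CommRingCat.of (R[X] ⧸ Ideal.span {(X : R[X]) ^ (n + 1)}))) :
    (X : R[X]) ∈ (nbhd R n t).asIdeal := by
  refine (nbhd R n t).isPrime.mem_of_pow_mem (n + 1) ?_
  show Ideal.Quotient.mk _ (X ^ (n + 1)) ∈ t.asIdeal
  have h : Ideal.Quotient.mk (Ideal.span {(X : R[X]) ^ (n + 1)}) (X ^ (n + 1)) = 0 :=
    Ideal.Quotient.eq_zero_iff_mem.mpr (Ideal.subset_span rfl)
  exact h ▸ zero_mem _

lemma nbhd_le (c : Spec (CommRingCat.of R[X]) ⟶ V) (hc : ∀ t, (X : R[X]) ∈ t.asIdeal → c t ∈ O) (n : ℕ) :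
    ⊤ ≤ (nbhd R n ≫ c) ⁻¹ᵁ O := fun t _ => hc _ (X_mem_nbhd n t)

/-- The Taylor coefficient of a section defined near the origin. -/
def jetCoeff (c : Spec (CommRingCat.of R[X]) ⟶ V) (hc : ∀ t, (X : R[X]) ∈ t.asIdeal → c t ∈ O) (F : Γ(V, O))
    (n : ℕ) : R :=
  jetLin n (pull (nbhd R n ≫ c) (nbhd_le c hc n) F)

theorem jetCoeff_scale {R' : Type u} [CommRing R'] (θ : R →+* R') (a : R')
    (c : Spec (CommRingCat.of R[X]) ⟶ V) (hc : ∀ t, (X : R[X]) ∈ t.asIdeal → c t ∈ O)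
    (c' : Spec (CommRingCat.of R'[X]) ⟶ V) (hc' : ∀ t, (X : R'[X]) ∈ t.asIdeal → c' t ∈ O)
    (e : Spec.map (CommRingCat.ofHom (scale θ a)) ≫ c = c') (F : Γ(V, O)) (n : ℕ) :
    jetCoeff c' hc' F n = θ (jetCoeff c hc F n) * a ^ n := by
  have hle : Ideal.span {(X : R[X]) ^ (n + 1)} ≤ (Ideal.span {(X : R'[X]) ^ (n + 1)}).comap (scale θ a) := by
    rw [Ideal.span_singleton_le_iff_mem, Ideal.mem_comap, scale, coe_eval₂RingHom, eval₂_X_pow, mul_pow]
    exact Ideal.mul_mem_left _ _ (Ideal.subset_span rfl)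
  let ψ := Ideal.quotientMap (Ideal.span {(X : R'[X]) ^ (n + 1)}) (scale θ a) hle
  have h : Spec.map (CommRingCat.ofHom ψ) ≫ (nbhd R n ≫ c) = nbhd R' n ≫ c' := by
    rw [← e, nbhd, nbhd, ← Spec.map_comp_assoc, ← Spec.map_comp_assoc, ← CommRingCat.ofHom_comp,
      ← CommRingCat.ofHom_comp]
    congr 3
  rw [jetCoeff, jetCoeff, pull_congr h.symm, pull_comp (CommRingCat.ofHom ψ) _ (nbhd_le c hc n)]
  obtain ⟨p, hp⟩ := Ideal.Quotient.mk_surjective (pull (nbhd R n ≫ c) (nbhd_le c hc n) F)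
  rw [← hp]
  show jetLin n (Ideal.Quotient.mk _ (scale θ a p)) = θ (jetLin n (Ideal.Quotient.mk _ p)) * _
  rw [jetLin_mk, jetLin_mk, coeff_scale]

section field

variable {K : Type u} [Field K]

/-- The generic point of the line. -/
def gen (K : Type u) [Field K] : Spec (CommRingCat.of K[X]) := ⟨⊥, Ideal.isPrime_bot⟩

/-- The origin of the line. -/
def origin (K : Type u) [Field K] : Spec (CommRingCat.of K[X]) :=
  ⟨Ideal.span {X}, (Ideal.span_singleton_prime X_ne_zero).mpr prime_X⟩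

lemma exists_away (c : Spec (CommRingCat.of K[X]) ⟶ V) (hc : ∀ t, (X : K[X]) ∈ t.asIdeal → c t ∈ O) :
    ∃ Q : K[X], Q ≠ 0 ∧ Q.coeff 0 ≠ 0 ∧
      ⊤ ≤ (Spec.map (CommRingCat.ofHom (algebraMap K[X] (Localization.Away Q))) ≫ c) ⁻¹ᵁ O := by
  have h0 : origin K ∈ c ⁻¹ᵁ O := hc _ (Ideal.subset_span rfl)
  obtain ⟨_, ⟨Q, rfl⟩, hQ, hle⟩ :=
    PrimeSpectrum.isTopologicalBasis_basic_opens.exists_subset_of_mem_open (show origin K ∈ (c ⁻¹ᵁ O : Set _) from h0)
      (c ⁻¹ᵁ O).isOpen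
  have hQ0 : Q.coeff 0 ≠ 0 := fun h => hQ (Ideal.mem_span_singleton.mpr (X_dvd_iff.mpr h))
  exact ⟨Q, fun h => hQ0 (by simp [h]), hQ0, fun t _ =>
    hle ((PrimeSpectrum.localization_away_comap_range (Localization.Away Q) Q).le ⟨t, rfl⟩)⟩

/-- A section near the origin of the line over a field is zero at the generic point iff all its coefficients vanish. -/
theorem gen_notMem_iff (c : Spec (CommRingCat.of K[X]) ⟶ V) (hc : ∀ t, (X : K[X]) ∈ t.asIdeal → c t ∈ O)
    (F : Γ(V, O)) : c (gen K) ∉ V.basicOpen F ↔ ∀ n, jetCoeff c hc F n = 0 := by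
  obtain ⟨Q, hQ, hQ0, hle⟩ := exists_away c hc
  let L := Localization.Away Q
  let G : L := pull (Spec.map (CommRingCat.ofHom (algebraMap K[X] L)) ≫ c) hle F
  haveI : IsDomain L := IsLocalization.isDomain_of_le_nonZeroDivisors L (powers_le_nonZeroDivisors_of_noZeroDivisors hQ)
  have hgen : c (gen K) ∈ V.basicOpen F ↔ G ≠ 0 := by
    let t0 : Spec (CommRingCat.of L) := ⟨⊥, Ideal.isPrime_bot⟩
    have ht0 : Spec.map (CommRingCat.ofHom (algebraMap K[X] L)) t0 = gen K := by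
      refine PrimeSpectrum.ext (eq_bot_iff.mpr fun p hp => ?_)
      exact (IsLocalization.injective L (powers_le_nonZeroDivisors_of_noZeroDivisors hQ))
        ((show algebraMap K[X] L p = 0 from hp).trans (map_zero _).symm)
    have := mem_basicOpen_iff _ hle F t0
    rw [Scheme.Hom.comp_apply, ht0] at this
    exact this.trans (not_congr Ideal.mem_bot)
  have hu : ∀ n, IsUnit (Ideal.Quotient.mk (Ideal.span {(X : K[X]) ^ (n + 1)}) Q) := fun n => by
    have hd : Q = C (Q.coeff 0) + X * Q.divX := by rw [add_comm, X_mul_divX_add]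
    rw [hd, map_add]
    refine IsNilpotent.isUnit_add_left_of_commute ⟨n + 1, ?_⟩ ((Ne.isUnit hQ0).map C |>.map _) (Commute.all _ _)
    rw [← map_pow, Ideal.Quotient.eq_zero_iff_mem, mul_pow]
    exact Ideal.mul_mem_right _ _ (Ideal.subset_span rfl)
  let l : ∀ n, L →+* K[X] ⧸ Ideal.span {(X : K[X]) ^ (n + 1)} := fun n => IsLocalization.Away.lift Q (hu n)
  have hjet : ∀ n, jetCoeff c hc F n = jetLin n (l n G) := fun n => by
    have e : Spec.map (CommRingCat.ofHom (l n)) ≫ Spec.map (CommRingCat.ofHom (algebraMap K[X] L)) ≫ c =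
        nbhd K n ≫ c := by
      rw [← Spec.map_comp_assoc, ← CommRingCat.ofHom_comp, IsLocalization.Away.lift_comp]
      rfl
    rw [jetCoeff, pull_congr e.symm, pull_comp (CommRingCat.ofHom (l n)) _ hle]
    rfl
  rw [hgen, not_not]
  refine ⟨fun h n => by rw [hjet, h, map_zero, map_zero], fun h => ?_⟩
  obtain ⟨k, P, hP⟩ := IsLocalization.Away.surj Q G
  have hmk : ∀ n, Ideal.Quotient.mk (Ideal.span {(X : K[X]) ^ (n + 1)}) P =
      l n G * Ideal.Quotient.mk _ Q ^ k := fun n => by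
    have := congrArg (l n) hP
    rw [map_mul, map_pow, IsLocalization.Away.lift_eq, IsLocalization.Away.lift_eq] at this
    exact this.symm
  have hzero : ∀ n m, m ≤ n → jetLin m (l m G) = 0 → ∀ p, Ideal.Quotient.mk _ p = l n G → p.coeff m = 0 := by
    intro n m hmn h0 p hp
    rw [← h0]
    have e : (Ideal.Quotient.factor (Ideal.span_singleton_le_span_singleton.mpr (pow_dvd_pow X (by omega : m + 1 ≤ n + 1)))).comp (l n) = l m := by
      refine IsLocalization.ringHom_ext (Submonoid.powers Q) (RingHom.ext fun p => ?_)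
      simp [l, IsLocalization.Away.lift_eq]
    rw [← e, RingHom.comp_apply, ← hp, Ideal.Quotient.factor_mk, jetLin_mk]
  have hl : ∀ n, l n G = 0 := fun n => by
    obtain ⟨p, hp⟩ := Ideal.Quotient.mk_surjective (l n G)
    rw [← hp, Ideal.Quotient.eq_zero_iff_mem, Ideal.mem_span_singleton, X_pow_dvd_iff]
    exact fun d hd => hzero n d (by omega) ((hjet d).symm.trans (h d)) p hp
  have hP0 : P = 0 := by
    ext n
    have := hmk n
    rw [hl, zero_mul, Ideal.Quotient.eq_zero_iff_mem, Ideal.mem_span_singleton, X_pow_dvd_iff] at this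
    simpa using this n (Nat.lt_succ_self n)
  rw [hP0, map_zero] at hP
  exact (mul_eq_zero.mp hP).resolve_right
    (pow_ne_zero _ (IsLocalization.Away.algebraMap_isUnit (S := L) Q).ne_zero)

/-- If a section vanishes at every point of the line, its coefficients vanish. -/
theorem jetCoeff_eq_zero (c : Spec (CommRingCat.of K[X]) ⟶ V) (hc : ∀ t, (X : K[X]) ∈ t.asIdeal → c t ∈ O)
    (F : Γ(V, O)) (h : ∀ t, c t ∈ O → c t ∉ V.basicOpen F) (n : ℕ) : jetCoeff c hc F n = 0 := by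
  refine (gen_notMem_iff c hc F).mp ?_ n
  intro hm
  exact h (gen K) (V.basicOpen_le F hm) hm

end field

end Groth.Agent.ContrX
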