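import Groth.Agent.ContrX.Jet
import Groth.Agent.SymX.SectLocus
import Groth.Agent.ConeX.Pointed
import Groth.Agent.ConeX.Vertex
import Groth.Agent.RelSpecX.Spec

/-!
# The charts of a line bundle given by frames
-/

universe u

open CategoryTheory CategoryTheory.Limits AlgebraicGeometry TopologicalSpace Opposite Polynomial
open scoped HomogeneousIdeal

set_option backward.isDefEq.respectTransparency false
set_option backward.isDefEq.respectTransparency.types false
set_option linter.unusedSectionVars false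

noncomputable section

namespace Groth.Agent.ContrX

open Groth.Agent

variable {X : Scheme.{u}} {L : X.Modules} {𝒜 : RelProj.QCGrAlg X} (j : L ⟶ 𝒜.toModule)

/-- The ring map of a frame. -/
def frameHom {a : X.Opens} (e : Γ(L, a)) : Γ(X, a)[X] →+* 𝒜.presheaf.obj (op a) :=
  eval₂RingHom (𝒜.str.app (op a)).hom (show 𝒜.presheaf.obj (op a) from j.app a e)

variable {j} (hLq : Coh.IsQCoh L) (hA : RelProj.IsGrSymAlg L 𝒜 j)

include hA in
lemma decompose_frameHom {a : X.Opens} (ha : IsAffineOpen a) (e : Γ(L, a)) (p : Γ(X, a)[X]) (n : ℕ) :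
    (DirectSum.decompose (𝒜.deg a ha) (frameHom j e p) n : 𝒜.presheaf.obj (op a)) =
      (𝒜.str.app (op a)).hom (p.coeff n) * (show 𝒜.presheaf.obj (op a) from j.app a e) ^ n := by
  induction p using Polynomial.induction_on' with
  | add p q hp hq =>
    rw [map_add, DirectSum.decompose_add, DirectSum.add_apply, AddMemClass.coe_add, hp, hq, coeff_add, map_add, add_mul]
  | monomial m r =>
    have hm : frameHom j e (monomial m r) ∈ 𝒜.deg a ha m := by
      rw [frameHom, coe_eval₂RingHom, eval₂_monomial]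
      simpa using SetLike.mul_mem_graded (𝒜.str_mem a ha r) (SetLike.pow_mem_graded m (hA.2 a ha e))
    rw [coeff_monomial]
    split
    · subst_vars
      rw [DirectSum.decompose_of_mem_same _ hm, frameHom, coe_eval₂RingHom, eval₂_monomial]
    · rename_i hne
      rw [DirectSum.decompose_of_mem_ne _ hm hne, map_zero, zero_mul]

include hLq hA in
theorem bijective_frameHom {a : X.Opens} (ha : IsAffineOpen a) {e : Γ(L, a)} (he : InvX.IsFrame e) :
    Function.Bijective (frameHom j e) := by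
  classical
  constructor
  · rw [injective_iff_map_eq_zero]
    intro p hp
    ext n
    have h := decompose_frameHom hA ha e p n
    rw [hp, DirectSum.decompose_zero, DirectSum.zero_apply, ZeroMemClass.coe_zero] at h
    rw [coeff_zero]
    exact SymX.coeff_eq_zero hLq hA ha he h.symm
  · intro b
    choose r hr using fun n => SymX.exists_coeff hLq hA ha he (DirectSum.decompose (𝒜.deg a ha) b n).2
    refine ⟨∑ n ∈ DFinsupp.support (DirectSum.decompose (𝒜.deg a ha) b), monomial n (r n), ?_⟩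
    conv_rhs => rw [← DirectSum.sum_support_decompose (𝒜.deg a ha) b]
    rw [map_sum]
    refine Finset.sum_congr rfl fun n _ => ?_
    rw [frameHom, coe_eval₂RingHom, eval₂_monomial, hr n]

/-- The ring isomorphism of a frame. -/
def frameEquiv {a : X.Opens} (ha : IsAffineOpen a) {e : Γ(L, a)} (he : InvX.IsFrame e) :
    Γ(X, a)[X] ≃+* 𝒜.presheaf.obj (op a) := RingEquiv.ofBijective _ (bijective_frameHom hLq hA ha he)

/-- The chart of a frame. -/
def chart {a : X.Opens} (ha : IsAffineOpen a) {e : Γ(L, a)} (he : InvX.IsFrame e) :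
    Spec (CommRingCat.of Γ(X, a)[X]) ⟶ 𝒜.toQCAlg.spec :=
  Spec.map (CommRingCat.ofHom (frameEquiv hLq hA ha he).symm.toRingHom) ≫ 𝒜.toQCAlg.ι a ha

lemma frameEquiv_symm_str {a : X.Opens} (ha : IsAffineOpen a) {e : Γ(L, a)} (he : InvX.IsFrame e) (r : Γ(X, a)) :
    (frameEquiv hLq hA ha he).symm ((𝒜.str.app (op a)).hom r) = C r :=
  (RingEquiv.symm_apply_eq _).mpr (eval₂_C _ _).symm

lemma frameEquiv_symm_frame {a : X.Opens} (ha : IsAffineOpen a) {e : Γ(L, a)} (he : InvX.IsFrame e) :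
    (frameEquiv hLq hA ha he).symm (show 𝒜.presheaf.obj (op a) from j.app a e) = Polynomial.X :=
  (RingEquiv.symm_apply_eq _).mpr (eval₂_X _ _).symm

theorem chart_π {a : X.Opens} (ha : IsAffineOpen a) {e : Γ(L, a)} (he : InvX.IsFrame e) :
    chart hLq hA ha he ≫ 𝒜.toQCAlg.π =
      Spec.map (CommRingCat.ofHom (C : Γ(X, a) →+* Γ(X, a)[X])) ≫ ha.fromSpec := by
  rw [chart, Category.assoc, RelSpec.QCAlg.ι_π, ← Spec.map_comp_assoc]
  congr 2
  exact CommRingCat.hom_ext (RingHom.ext (frameEquiv_symm_str hLq hA ha he))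

variable (h0 : RelCone.StrZeroBij 𝒜) (aug : 𝒜.toQCAlg ⟶ RelSpec.QCAlg.unit X)
  (haug : RelCone.IsAugmentation 𝒜 aug) {j0 : X ⟶ 𝒜.toQCAlg.spec} (hj0 : RelCone.IsVertex 𝒜 aug j0)

include hA h0 haug hj0 in
/-- The zero section in a chart. -/
theorem chart_mem_range_iff {a : X.Opens} (ha : IsAffineOpen a) {e : Γ(L, a)} (he : InvX.IsFrame e)
    (t : Spec (CommRingCat.of Γ(X, a)[X])) :
    chart hLq hA ha he t ∈ Set.range j0 ↔ (Polynomial.X : Γ(X, a)[X]) ∈ t.asIdeal := by
  have key : chart hLq hA ha he t ∈ RelCone.pointedCone 𝒜 ↔ (Polynomial.X : Γ(X, a)[X]) ∉ t.asIdeal := by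
    rw [chart, Scheme.Hom.comp_apply]
    refine (ConeX.mem_pointedCone 𝒜 a ha _).trans ((ConeX.mem_vertexCompl _).trans ?_)
    constructor
    · rintro ⟨b, hb, hbt⟩ hX
      refine hbt ?_
      show (frameEquiv hLq hA ha he).symm b ∈ t.asIdeal
      obtain ⟨p, rfl⟩ := (frameEquiv hLq hA ha he).surjective b
      rw [RingEquiv.symm_apply_apply]
      have hp0 : p.coeff 0 = 0 := by
        refine SymX.coeff_eq_zero hLq hA ha he (N := 0) ?_
        rw [← decompose_frameHom hA ha e p 0]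
        exact (HomogeneousIdeal.mem_irrelevant_iff _ _).mp hb
      obtain ⟨q, rfl⟩ := Polynomial.X_dvd_iff.mpr hp0
      exact t.asIdeal.mul_mem_right _ hX
    · intro hX
      refine ⟨show 𝒜.presheaf.obj (op a) from j.app a e, HomogeneousIdeal.mem_irrelevant_of_mem _ one_pos (hA.2 a ha e), ?_⟩
      intro hm
      refine hX ?_
      rw [← frameEquiv_symm_frame hLq hA ha he]
      exact hm
  have h := ConeX.pointedCone_eq 𝒜 aug h0 haug hj0
  rw [← not_iff_not, ← key]
  exact (Set.ext_iff.mp h _).symm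

/-- The change of frames. -/
theorem chart_change {a W : X.Opens} (ha : IsAffineOpen a) (hW : IsAffineOpen W) (h : W ≤ a) {e : Γ(L, a)}
    (he : InvX.IsFrame e) {e' : Γ(L, W)} (he' : InvX.IsFrame e') {u : Γ(X, W)}
    (hu : AModX.res L h e = u • e') :
    Spec.map (CommRingCat.ofHom (scale (AModX.resR h) u)) ≫ chart hLq hA ha he = chart hLq hA hW he' := by
  rw [chart, chart, ← Spec.map_comp_assoc, ← RelSpecX.ι_res_le 𝒜.toQCAlg ha hW h, ← Spec.map_comp_assoc,
    ← CommRingCat.ofHom_comp]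
  congr 2
  refine CommRingCat.hom_ext (RingHom.ext fun b => ?_)
  obtain ⟨p, rfl⟩ := (frameEquiv hLq hA ha he).surjective b
  show scale (AModX.resR h) u ((frameEquiv hLq hA ha he).symm (frameEquiv hLq hA ha he p)) =
    (frameEquiv hLq hA hW he').symm ((𝒜.presheaf.map (homOfLE h).op).hom (frameHom j e p))
  rw [RingEquiv.symm_apply_apply, RingEquiv.eq_symm_apply]
  refine RingHom.congr_fun (f := (frameHom j e').comp (scale (AModX.resR h) u))
    (g := (𝒜.presheaf.map (homOfLE h).op).hom.comp (frameHom j e)) (Polynomial.ringHom_ext (fun r => ?_) ?_) p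
  · simp only [RingHom.comp_apply, frameHom, scale, coe_eval₂RingHom, eval₂_C]
    exact (SymX.map_str h r).symm
  · simp only [RingHom.comp_apply, frameHom, scale, coe_eval₂RingHom, eval₂_X, eval₂_mul, eval₂_C]
    rw [SymX.map_j h e, hu, SymX.j_smul]

section fibre

variable {a : X.Opens} (ha : IsAffineOpen a) {e : Γ(L, a)} (he : InvX.IsFrame e) (𝔭 : Spec Γ(X, a))

/-- The line over a point. -/
def fibreChart : Spec (CommRingCat.of 𝔭.asIdeal.ResidueField[X]) ⟶ 𝒜.toQCAlg.spec :=
  Spec.map (CommRingCat.ofHom (scale (algebraMap Γ(X, a) 𝔭.asIdeal.ResidueField) 1)) ≫ chart hLq hA ha he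

lemma fibreChart_π (t : Spec (CommRingCat.of 𝔭.asIdeal.ResidueField[X])) :
    𝒜.toQCAlg.π (fibreChart hLq hA ha he 𝔭 t) = ha.fromSpec 𝔭 := by
  rw [fibreChart, ← Scheme.Hom.comp_apply, Category.assoc, chart_π hLq hA ha he, Scheme.Hom.comp_apply,
    Scheme.Hom.comp_apply]
  congr 1
  refine PrimeSpectrum.ext (Ideal.ext fun r => ?_)
  show scale (algebraMap Γ(X, a) 𝔭.asIdeal.ResidueField) 1 (C r) ∈ t.asIdeal ↔ r ∈ 𝔭.asIdeal
  rw [scale, coe_eval₂RingHom, eval₂_C, RingHom.comp_apply, ← Ideal.algebraMap_residueField_eq_zero (I := 𝔭.asIdeal)]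
  constructor
  · intro hm
    by_contra hne
    exact t.isPrime.ne_top (Ideal.eq_top_of_isUnit_mem _ hm ((Ne.isUnit hne).map C))
  · intro hz
    rw [hz, map_zero]
    exact zero_mem _

include hA h0 haug hj0 in
lemma fibreChart_gen_notMem : fibreChart hLq hA ha he 𝔭 (gen _) ∉ Set.range j0 := by
  rw [fibreChart, Scheme.Hom.comp_apply, chart_mem_range_iff hLq hA h0 aug haug hj0 ha he]
  show ¬ scale (algebraMap Γ(X, a) 𝔭.asIdeal.ResidueField) 1 Polynomial.X ∈ (⊥ : Ideal _)
  rw [Ideal.mem_bot, scale, coe_eval₂RingHom, eval₂_X, map_one, one_mul]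
  exact Polynomial.X_ne_zero

include hA h0 haug hj0 in
lemma fibreChart_mem_range (t : Spec (CommRingCat.of 𝔭.asIdeal.ResidueField[X]))
    (ht : (Polynomial.X : 𝔭.asIdeal.ResidueField[X]) ∈ t.asIdeal) : fibreChart hLq hA ha he 𝔭 t ∈ Set.range j0 := by
  rw [fibreChart, Scheme.Hom.comp_apply, chart_mem_range_iff hLq hA h0 aug haug hj0 ha he]
  show scale (algebraMap Γ(X, a) 𝔭.asIdeal.ResidueField) 1 Polynomial.X ∈ t.asIdeal
  rwa [scale, coe_eval₂RingHom, eval₂_X, map_one, one_mul]

end fibre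

end Groth.Agent.ContrX
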