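import Groth.Agent.Blanchard.Descend
import Groth.Agent.NeronHDLib.IntClosureNormal
import Groth.Agent.SymX.Gen
import Groth.Agent.ContrX.LineChart
import Groth.Agent.RelSpecX.Gamma
import Groth.Agent.RelSpecX.AffHom
import Groth.Agent.InvX.Frame
import Mathlib.AlgebraicGeometry.Properties
import Mathlib.RingTheory.Polynomial.IsIntegral

/-!
# Integrality and normality of contracted line bundles
-/

universe u

open CategoryTheory CategoryTheory.Limits AlgebraicGeometry TopologicalSpace Opposite Polynomial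
open scoped HomogeneousIdeal

set_option backward.isDefEq.respectTransparency false
set_option backward.isDefEq.respectTransparency.types false
set_option linter.style.haveILetI false
set_option linter.unusedSectionVars false

noncomputable section

namespace Groth.Agent.ContrX

open Groth.Agent

lemma isIntegrallyClosed_of_isLoc {R S : Type u} [CommRing R] [CommRing S] [IsDomain R] [IsIntegrallyClosed R]
    [Algebra R S] (P : Ideal R) [P.IsPrime] [IsLocalization.AtPrime S P] : IsDomain S ∧ IsIntegrallyClosed S :=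
  have h := IsLocalization.isDomain_of_le_nonZeroDivisors S (M := P.primeCompl) P.primeCompl_le_nonZeroDivisors
  ⟨h, isIntegrallyClosed_of_isLocalization S P.primeCompl P.primeCompl_le_nonZeroDivisors⟩

lemma stalk_of_affine {X : Scheme.{u}} {U : X.Opens} (hU : IsAffineOpen U) [IsDomain Γ(X, U)]
    [IsIntegrallyClosed Γ(X, U)] {x : X} (hx : x ∈ U) :
    IsDomain (X.presheaf.stalk x) ∧ IsIntegrallyClosed (X.presheaf.stalk x) := by
  letI := X.presheaf.algebra_section_stalk ⟨x, hx⟩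
  haveI := hU.isLocalization_stalk ⟨x, hx⟩
  exact isIntegrallyClosed_of_isLoc (hU.primeIdealOf ⟨x, hx⟩).asIdeal

/-- An open affine where sections restrict isomorphically gives isomorphisms on its basic opens. -/
theorem isIso_app_basicOpen {V C : Scheme.{u}} (q : V ⟶ C) {T : C.Opens} (hT : IsAffineOpen T) {W : V.Opens}
    (hW : W = q ⁻¹ᵁ T) (hcpt : IsCompact (W : Set V)) (hqs : IsQuasiSeparated (W : Set V))
    (hbij : Function.Bijective (q.appLE T W hW.le).hom) (h : Γ(C, T)) : IsIso (q.app (C.basicOpen h)) := by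
  set σ := (q.appLE T W hW.le).hom h with hσ
  have hpre : V.basicOpen σ = q ⁻¹ᵁ C.basicOpen h := by
    subst hW
    rw [hσ, ← Scheme.Hom.app_eq_appLE, Scheme.preimage_basicOpen]
  haveI := hT.isLocalization_basicOpen h
  haveI := isLocalization_basicOpen_of_qcqs hcpt hqs σ
  letI : Algebra Γ(V, W) Γ(V, V.basicOpen σ) := (V.presheaf.map (homOfLE (V.basicOpen_le σ)).op).hom.toAlgebra
  let Ψ := IsLocalization.Away.map Γ(C, C.basicOpen h) Γ(V, V.basicOpen σ) (q.appLE T W hW.le).hom h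
  have hΨ : Function.Bijective Ψ := by
    refine ⟨IsLocalization.map_injective_of_injective _ _ _ hbij.1, fun z => ?_⟩
    obtain ⟨k, b, hb⟩ := IsLocalization.Away.surj σ z
    obtain ⟨w, rfl⟩ := hbij.2 b
    obtain ⟨v, hv⟩ := (IsLocalization.Away.algebraMap_isUnit (S := Γ(C, C.basicOpen h)) h).pow k
    refine ⟨algebraMap _ _ w * ↑v⁻¹, ?_⟩
    refine ((IsLocalization.Away.algebraMap_isUnit σ).pow k).mul_left_inj.mp ?_
    have hvΨ : Ψ (v : Γ(C, C.basicOpen h)) = algebraMap _ _ σ ^ k := by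
      rw [hv, map_pow, show Ψ (algebraMap _ _ h) = _ from IsLocalization.map_eq _ h]
    rw [hb, map_mul, mul_assoc, ← hvΨ, ← map_mul, Units.inv_mul, map_one, mul_one,
      show Ψ (algebraMap _ _ w) = _ from IsLocalization.map_eq _ w]
  have heq : (q.appLE (C.basicOpen h) (V.basicOpen σ) hpre.le).hom = Ψ := by
    refine IsLocalization.ringHom_ext (Submonoid.powers h) (RingHom.ext fun w => ?_)
    show _ = Ψ (algebraMap _ _ w)
    rw [show Ψ (algebraMap _ _ w) = algebraMap _ _ ((q.appLE T W hW.le).hom w) from IsLocalization.map_eq _ w]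
    show (q.appLE (C.basicOpen h) (V.basicOpen σ) hpre.le).hom ((C.presheaf.map (homOfLE (C.basicOpen_le h)).op).hom w) =
      (V.presheaf.map (homOfLE (V.basicOpen_le σ)).op).hom ((q.appLE T W hW.le).hom w)
    rw [← CommRingCat.comp_apply, ← CommRingCat.comp_apply, Scheme.Hom.map_appLE, Scheme.Hom.appLE_map]
  have happ : IsIso (q.appLE (C.basicOpen h) (V.basicOpen σ) hpre.le) :=
    (ConcreteCategory.isIso_iff_bijective _).mpr (by
      show Function.Bijective (q.appLE (C.basicOpen h) (V.basicOpen σ) hpre.le).hom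
      rw [heq]; exact hΨ)
  rw [Scheme.Hom.app_eq_appLE]
  exact (Scheme.Hom.appLE_congr q hpre.le rfl hpre (fun k => IsIso k)).mp happ

/-- The scheme of an open subset is integral if it is irreducible and its points have reduced stalks. -/
lemma isIntegral_opens {V : Scheme.{u}} (O : V.Opens) (hirr : IsIrreducible (O : Set V))
    (hred : ∀ v ∈ O, _root_.IsReduced (V.presheaf.stalk v)) : IsIntegral O.toScheme := by
  haveI : IrreducibleSpace O.toScheme := isIrreducible_iff_irreducibleSpace.mp hirr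
  haveI : ∀ v : O.toScheme, _root_.IsReduced (O.toScheme.presheaf.stalk v) := fun v => by
    haveI := hred v.1 v.2
    exact isReduced_of_injective (O.stalkIso v).hom.hom (ConcreteCategory.bijective_of_isIso (O.stalkIso v).hom).1
  haveI : IsReduced O.toScheme := isReduced_of_isReduced_stalk _
  exact isIntegral_of_irreducibleSpace_of_isReduced _

/-- A quasi-compact open of a locally integral scheme decomposes into finitely many integral pieces. -/
theorem exists_pieces {X : Scheme.{u}} (hX : ∀ x : X, ∃ U : X.Opens, x ∈ U ∧ IsIntegral (U : Scheme.{u}))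
    {T : X.Opens} (hT : IsCompact (T : Set X)) :
    ∃ P : Finset X, ∃ W : X → X.Opens, (∀ η ∈ P, W η ≤ T ∧ IsIntegral (W η : Scheme.{u})) ∧
      (∀ x ∈ T, ∃ η ∈ P, x ∈ W η) ∧ ∀ η ∈ P, ∀ η' ∈ P, η ≠ η' → Disjoint (W η : Set X) (W η') := by
  classical
  choose U hxU hU using hX
  obtain ⟨s, hs⟩ := hT.elim_finite_subcover (fun x : T => ((U x.1 ⊓ T : X.Opens) : Set X)) (fun x => (U x.1 ⊓ T).isOpen)
    fun x hx => Set.mem_iUnion.mpr ⟨⟨x, hx⟩, hxU x, hx⟩
  have hirr : ∀ x : T, IsIrreducible ((U x.1 ⊓ T : X.Opens) : Set X) := fun x => by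
    haveI := hU x.1
    have h : IsIrreducible (U x.1 : Set X) := isIrreducible_iff_irreducibleSpace.mpr (inferInstanceAs (IrreducibleSpace (U x.1).toScheme))
    exact ⟨⟨x.1, hxU x.1, x.2⟩, h.2.open_subset (U x.1 ⊓ T).isOpen fun y hy => hy.1⟩
  let η : T → X := fun x => (hirr x).genericPoint
  have hη : ∀ x, η x ∈ (U x.1 ⊓ T : X.Opens) := fun x => by
    obtain ⟨y, hy⟩ := (hirr x).nonempty
    exact ((hirr x).isGenericPoint_genericPoint_closure.specializes (subset_closure hy)).mem_open (U x.1 ⊓ T).isOpen hy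
  have hkey : ∀ x x' : T, ∀ z, z ∈ (U x.1 ⊓ T : X.Opens) → z ∈ (U x'.1 ⊓ T : X.Opens) → η x = η x' := by
    intro x x' z hz hz'
    have h1 : η x ∈ (U x'.1 ⊓ T : X.Opens) :=
      ((hirr x).isGenericPoint_genericPoint_closure.specializes (subset_closure hz)).mem_open (U x'.1 ⊓ T).isOpen hz'
    have h2 : η x' ∈ (U x.1 ⊓ T : X.Opens) :=
      ((hirr x').isGenericPoint_genericPoint_closure.specializes (subset_closure hz')).mem_open (U x.1 ⊓ T).isOpen hz
    exact ((hirr x).isGenericPoint_genericPoint_closure.specializes (subset_closure h2)).antisymm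
      ((hirr x').isGenericPoint_genericPoint_closure.specializes (subset_closure h1)) |>.eq
  let W : X → X.Opens := fun e => ⨆ x : {x : T // x ∈ s ∧ η x = e}, U x.1.1 ⊓ T
  refine ⟨s.image η, W, fun e he => ⟨iSup_le fun x => inf_le_right, ?_⟩, fun z hz => ?_, fun e _ e' _ hne => ?_⟩
  · obtain ⟨x₀, hx₀, rfl⟩ := Finset.mem_image.mp he
    have hmem : η x₀ ∈ W (η x₀) := Opens.mem_iSup.mpr ⟨⟨x₀, hx₀, rfl⟩, hη x₀⟩
    refine isIntegral_opens _ ⟨⟨_, hmem⟩, ?_⟩ fun v hv => ?_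
    · rintro O₁ O₂ hO₁ hO₂ ⟨v₁, hv₁, hv₁'⟩ ⟨v₂, hv₂, hv₂'⟩
      obtain ⟨x₁, h₁⟩ := Opens.mem_iSup.mp hv₁
      obtain ⟨x₂, h₂⟩ := Opens.mem_iSup.mp hv₂
      refine ⟨η x₀, hmem, ?_, ?_⟩
      · exact x₁.2.2 ▸ ((hirr x₁.1).isGenericPoint_genericPoint_closure.specializes (subset_closure h₁)).mem_open hO₁ hv₁'
      · exact x₂.2.2 ▸ ((hirr x₂.1).isGenericPoint_genericPoint_closure.specializes (subset_closure h₂)).mem_open hO₂ hv₂'
    · obtain ⟨x, hx⟩ := Opens.mem_iSup.mp hv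
      haveI := hU x.1.1
      haveI : IsReduced (U x.1.1).toScheme := inferInstance
      exact isReduced_of_injective ((U x.1.1).stalkIso ⟨v, hx.1⟩).inv.hom
        (ConcreteCategory.bijective_of_isIso ((U x.1.1).stalkIso ⟨v, hx.1⟩).inv).1
  · obtain ⟨x, hxs⟩ := Set.mem_iUnion.mp (hs hz)
    obtain ⟨hx, hzx⟩ := Set.mem_iUnion.mp hxs
    exact ⟨η x, Finset.mem_image_of_mem η hx, Opens.mem_iSup.mpr ⟨⟨x, hx, rfl⟩, hzx⟩⟩
  · refine Set.disjoint_left.mpr fun z hz hz' => ?_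
    obtain ⟨x, hx⟩ := Opens.mem_iSup.mp hz
    obtain ⟨x', hx'⟩ := Opens.mem_iSup.mp hz'
    exact hne (x.2.2.symm.trans ((hkey x.1 x'.1 z hx hx').trans x'.2.2))

/-- The function equal to one on a clopen piece and to zero off it. -/
theorem exists_indicator {X : Scheme.{u}} {T W : X.Opens} (hWT : W ≤ T) (R : X.Opens) (hRT : R ≤ T)
    (hcov : T ≤ W ⊔ R) (hdisj : W ⊓ R = ⊥) : ∃ e : Γ(X, T), X.basicOpen e = W ∧ X.basicOpen (1 - e) = R := by
  let Os : Bool → X.Opens := fun b => cond b W R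
  let sec : ∀ b : Bool, Γ(X, Os b) := fun b => match b with
    | true => 1
    | false => 0
  have hle : ∀ b, Os b ≤ T := fun b => by cases b <;> assumption
  obtain ⟨e, he, -⟩ := X.sheaf.existsUnique_gluing' Os T (fun b => homOfLE (hle b))
    (hcov.trans (sup_le (le_iSup Os true) (le_iSup Os false))) sec fun a b => by
      rcases a with _ | _ <;> rcases b with _ | _
      · rfl
      · have : Subsingleton Γ(X, R ⊓ W) := by rw [inf_comm, hdisj]; infer_instance
        exact this.elim _ _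
      · have : Subsingleton Γ(X, W ⊓ R) := by rw [hdisj]; infer_instance
        exact this.elim _ _
      · rfl
  have h1 : (X.presheaf.map (homOfLE hWT).op).hom e = 1 := he true
  have h0 : (X.presheaf.map (homOfLE hRT).op).hom e = 0 := he false
  have hW1 : X.basicOpen e ⊓ W = W ∧ X.basicOpen (1 - e) ⊓ W = ⊥ := by
    constructor
    · rw [inf_comm, ← X.basicOpen_res e (homOfLE hWT).op]
      erw [h1]
      exact X.basicOpen_of_isUnit isUnit_one
    · rw [inf_comm, ← X.basicOpen_res (1 - e) (homOfLE hWT).op, map_sub, map_one]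
      erw [h1]
      rw [sub_self]
      exact Scheme.basicOpen_zero _ _
  have hR1 : X.basicOpen e ⊓ R = ⊥ ∧ X.basicOpen (1 - e) ⊓ R = R := by
    constructor
    · rw [inf_comm, ← X.basicOpen_res e (homOfLE hRT).op]
      erw [h0]
      exact Scheme.basicOpen_zero _ _
    · rw [inf_comm, ← X.basicOpen_res (1 - e) (homOfLE hRT).op, map_sub, map_one]
      erw [h0]
      rw [sub_zero]
      exact X.basicOpen_of_isUnit isUnit_one
  refine ⟨e, le_antisymm (fun z hz => ?_) (hW1.1.ge.trans inf_le_left),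
    le_antisymm (fun z hz => ?_) (hR1.2.ge.trans inf_le_left)⟩
  · rcases hcov (X.basicOpen_le e hz) with h | h
    · exact h
    · exact (hR1.1.le ⟨hz, h⟩).elim
  · rcases hcov (X.basicOpen_le _ hz) with h | h
    · exact (hW1.2.le ⟨hz, h⟩).elim
    · exact h

variable {X : Scheme.{u}} {L : X.Modules} (hL : PicF.IsInvertible L) (hLq : Coh.IsQCoh L)
  {A : RelSpec.QCAlg X} {j : L ⟶ A.toModule} (hA : RelSpec.IsSymAlg L A j)

include hL in
lemma exists_frame_affine {x : X} {O : X.Opens} (hx : x ∈ O) :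
    ∃ b : X.Opens, IsAffineOpen b ∧ x ∈ b ∧ b ≤ O ∧ ∃ e : Γ(L, b), InvX.IsFrame e := by
  obtain ⟨U, hxU, e, he⟩ := InvX.exists_frame hL x
  obtain ⟨_, ⟨b, hb, rfl⟩, hxb, hsub⟩ := X.isBasis_affineOpens.exists_subset_of_mem_open
    (a := x) (u := ((U ⊓ O : X.Opens) : Set X)) ⟨hxU, hx⟩ (U ⊓ O).isOpen
  exact ⟨b, hb, hxb, fun y hy => (hsub hy).2, _, he.res (show b ≤ U from fun y hy => (hsub hy).1)⟩

include hLq hA in
/-- Over a frame the symmetric algebra is a polynomial ring. -/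
theorem exists_polyEquiv {b : X.Opens} (hb : IsAffineOpen b) {e : Γ(L, b)} (he : InvX.IsFrame e) :
    Nonempty (Γ(X, b)[X] ≃+* A.presheaf.obj (op b)) := by
  obtain ⟨𝒜, k, ⟨C⟩⟩ := SymX.exists_chartwise hLq
  obtain ⟨e₁, -, -⟩ := SymX.exists_symEquiv hLq C.isGrSymAlg.1 (⟨b, hb⟩ : X.AffineZariskiSite)
  obtain ⟨e₂, -, -⟩ := SymX.exists_symEquiv hLq hA (⟨b, hb⟩ : X.AffineZariskiSite)
  exact ⟨(frameEquiv hLq C.isGrSymAlg hb he).trans (e₁.symm.trans e₂)⟩

lemma sections_normal {W : X.Opens} [IsIntegral (W : Scheme.{u})] {b : X.Opens} (hb : IsAffineOpen b) (hbW : b ≤ W)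
    {x : X} (hx : x ∈ b) : IsDomain Γ(X, b) := by
  have hne : Nonempty (W.ι ⁻¹ᵁ b) := ⟨⟨⟨x, hbW hx⟩, hx⟩⟩
  have h : IsDomain Γ((W : Scheme.{u}), W.ι ⁻¹ᵁ b) := inferInstance
  have e : b = W.ι ''ᵁ (W.ι ⁻¹ᵁ b) := by
    rw [Scheme.Hom.image_preimage_eq_opensRange_inf, Scheme.Opens.opensRange_ι, inf_eq_right.mpr hbW]
  rw [e]
  exact h

variable {W : X.Opens} [IsIntegral (W : Scheme.{u})]

include hL hLq hA in
theorem isIntegral_preimage : IsIntegral ((A.π ⁻¹ᵁ W : A.spec.Opens) : Scheme.{u}) := by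
  have hdom : ∀ {b : X.Opens}, IsAffineOpen b → b ≤ W → ∀ x ∈ b, (∃ e : Γ(L, b), InvX.IsFrame e) →
      IsDomain (A.presheaf.obj (op b)) := by
    intro b hb hbW x hx he
    obtain ⟨e, he⟩ := he
    haveI := sections_normal hb hbW hx
    obtain ⟨φ⟩ := exists_polyEquiv hLq hA hb he
    exact MulEquiv.isDomain _ φ.symm.toMulEquiv
  have hirr : ∀ {b : X.Opens}, IsAffineOpen b → b ≤ W → ∀ x ∈ b, (∃ e : Γ(L, b), InvX.IsFrame e) →
      IsIrreducible ((A.π ⁻¹ᵁ b : A.spec.Opens) : Set A.spec) := by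
    intro b hb hbW x hx he
    haveI := hdom hb hbW x hx he
    rw [A.π_preimage b hb, Scheme.Hom.coe_opensRange, ← Set.image_univ]
    exact (IrreducibleSpace.isIrreducible_univ _).image _ (Scheme.Hom.continuous _).continuousOn
  refine isIntegral_opens _ ⟨?_, ?_⟩ fun v hv => ?_
  · obtain ⟨⟨x, hxW⟩⟩ := (inferInstance : Nonempty (W : Scheme.{u}))
    obtain ⟨b, hb, hxb, hbW, he⟩ := exists_frame_affine hL hxW
    obtain ⟨v, hv⟩ := (hirr hb hbW x hxb he).nonempty
    exact ⟨v, hbW hv⟩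
  · rintro O₁ O₂ hO₁ hO₂ ⟨v₁, hv₁W, hv₁⟩ ⟨v₂, hv₂W, hv₂⟩
    obtain ⟨b₁, hb₁, hvb₁, hb₁W, he₁⟩ := exists_frame_affine hL (show A.π v₁ ∈ W from hv₁W)
    obtain ⟨b₂, hb₂, hvb₂, hb₂W, he₂⟩ := exists_frame_affine hL (show A.π v₂ ∈ W from hv₂W)
    have hWirr : IsIrreducible (W : Set X) :=
      isIrreducible_iff_irreducibleSpace.mpr (inferInstanceAs (IrreducibleSpace (W : Scheme.{u})))
    obtain ⟨x, hxW, hx⟩ := hWirr.2 _ _ b₁.isOpen b₂.isOpen ⟨_, hv₁W, hvb₁⟩ ⟨_, hv₂W, hvb₂⟩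
    obtain ⟨c, hc, hxc, hcle, hec⟩ := exists_frame_affine hL (show x ∈ b₁ ⊓ b₂ from hx)
    have hcW : c ≤ W := fun y hy => hb₁W (hcle hy).1
    have hi := hirr hc hcW x hxc hec
    obtain ⟨w, hw⟩ := hi.nonempty
    obtain ⟨a₁, -, ha₁, ha₁c⟩ := (hirr hb₁ hb₁W _ hvb₁ he₁).2 O₁ _ hO₁ (A.π ⁻¹ᵁ c).isOpen ⟨v₁, hvb₁, hv₁⟩
      ⟨w, (hcle hw).1, hw⟩
    obtain ⟨a₂, -, ha₂, ha₂c⟩ := (hirr hb₂ hb₂W _ hvb₂ he₂).2 O₂ _ hO₂ (A.π ⁻¹ᵁ c).isOpen ⟨v₂, hvb₂, hv₂⟩
      ⟨w, (hcle hw).2, hw⟩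
    obtain ⟨a, hac, ha⟩ := hi.2 O₁ O₂ hO₁ hO₂ ⟨a₁, ha₁c, ha₁⟩ ⟨a₂, ha₂c, ha₂⟩
    exact ⟨a, hcW hac, ha⟩
  · obtain ⟨b, hb, hvb, hbW, he⟩ := exists_frame_affine hL (show A.π v ∈ W from hv)
    haveI := hdom hb hbW _ hvb he
    obtain ⟨s, rfl⟩ := (A.π_preimage b hb).le hvb
    exact isReduced_of_injective ((A.ι b hb).stalkMap s).hom
      (ConcreteCategory.bijective_of_isIso ((A.ι b hb).stalkMap s)).1

include hL hLq hA in
omit [IsIntegral (W : Scheme.{u})] in
theorem isNormalScheme_spec (hX : Pi1.IsNormalScheme X)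
    (hloc : ∀ x : X, ∃ U : X.Opens, x ∈ U ∧ IsIntegral (U : Scheme.{u})) : Pi1.IsNormalScheme A.spec := by
  intro v
  obtain ⟨U, hvU, hU⟩ := hloc (A.π v)
  haveI := hU
  obtain ⟨b, hb, hvb, hbU, e, he⟩ := exists_frame_affine hL hvU
  haveI := sections_normal hb hbU hvb
  haveI : Nonempty b := ⟨⟨_, hvb⟩⟩
  haveI : IsIntegrallyClosed Γ(X, b) := IsIntegrallyClosed.of_localization_maximal fun P _ hP => by
    have hy : hb.fromSpec ⟨P, hP.isPrime⟩ ∈ b := hb.range_fromSpec.le ⟨_, rfl⟩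
    letI : Algebra Γ(X, b) (X.presheaf.stalk (hb.fromSpec ⟨P, hP.isPrime⟩)) :=
      X.presheaf.algebra_section_stalk ⟨hb.fromSpec ⟨P, hP.isPrime⟩, hy⟩
    haveI : IsLocalization.AtPrime (X.presheaf.stalk (hb.fromSpec ⟨P, hP.isPrime⟩)) P :=
      hb.isLocalization_stalk' ⟨P, hP.isPrime⟩ hy
    haveI := (hX (hb.fromSpec ⟨P, hP.isPrime⟩)).2
    exact IsIntegrallyClosed.of_equiv (IsLocalization.algEquiv P.primeCompl
      (X.presheaf.stalk (hb.fromSpec ⟨P, hP.isPrime⟩)) (Localization.AtPrime P)).toRingEquiv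
  obtain ⟨φ⟩ := exists_polyEquiv hLq hA hb he
  haveI : IsDomain (A.presheaf.obj (op b)) := MulEquiv.isDomain _ φ.symm.toMulEquiv
  haveI : IsIntegrallyClosed (A.presheaf.obj (op b)) := IsIntegrallyClosed.of_equiv φ
  haveI := RelSpecX.isIso_gammaMap A
  haveI : IsIso (A.gammaMap.app (op b)) := NatIso.isIso_app_of_isIso _ _
  let ψ : Γ(A.spec, A.π ⁻¹ᵁ b) ≃+* A.presheaf.obj (op b) :=
    (asIso (A.gammaMap.app (op b))).commRingCatIsoToRingEquiv
  haveI : IsDomain Γ(A.spec, A.π ⁻¹ᵁ b) := MulEquiv.isDomain _ ψ.toMulEquiv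
  haveI : IsIntegrallyClosed Γ(A.spec, A.π ⁻¹ᵁ b) := IsIntegrallyClosed.of_equiv ψ.symm
  exact stalk_of_affine (hb.preimage A.π) (show v ∈ A.π ⁻¹ᵁ b from hvb)

end Groth.Agent.ContrX
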