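import Groth.Agent.ContrX.Normal

/-!
# The affine cone of a line bundle: integrality and normality
-/

universe u

open CategoryTheory CategoryTheory.Limits AlgebraicGeometry TopologicalSpace Opposite

set_option backward.isDefEq.respectTransparency false
set_option backward.isDefEq.respectTransparency.types false
set_option linter.style.haveILetI false
set_option linter.unusedSectionVars false

noncomputable section

namespace Groth.Agent.ContrX

open Groth.Agent

variable {X Y : Scheme.{u}} (f : X ⟶ Y) [IsSeparated f] [QuasiCompact f]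
  {L : X.Modules} (hL : PicF.IsInvertible L) (hLq : Coh.IsQCoh L)
  {A : RelSpec.QCAlg X} {j : L ⟶ A.toModule} (hA : RelSpec.IsSymAlg L A j)

/-- The canonical morphism to the spectrum of the direct image. -/
def toCone : A.spec ⟶ (RelSpec.QCAlg.directImage (A.π ≫ f)).spec :=
  RelSpecX.ofAlgHom (RelSpec.QCAlg.directImage (A.π ≫ f)).π (A.π ≫ f)
    ⟨(RelSpec.QCAlg.directImage (A.π ≫ f)).gammaMap, (RelSpec.QCAlg.directImage (A.π ≫ f)).π_c_gammaMap⟩

lemma toCone_π : toCone f (A := A) ≫ (RelSpec.QCAlg.directImage (A.π ≫ f)).π = A.π ≫ f :=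
  RelSpecX.ofAlgHom_comp _ _ _

lemma bijective_toCone (U : Y.Opens) (hU : IsAffineOpen U) :
    Function.Bijective ((toCone f (A := A)).appLE ((RelSpec.QCAlg.directImage (A.π ≫ f)).π ⁻¹ᵁ U) ((A.π ≫ f) ⁻¹ᵁ U)
      (RelSpecX.preimage_eq _ _ _ (toCone_π f) U).le).hom := by
  erw [RelSpecX.appLE_ofAlgHom _ _ _ ⟨U, hU⟩]
  haveI := RelSpecX.isIso_gammaMap (RelSpec.QCAlg.directImage (A.π ≫ f))
  haveI : IsIso ((RelSpec.QCAlg.directImage (A.π ≫ f)).gammaMap.app (op U)) := NatIso.isIso_app_of_isIso _ _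
  exact ConcreteCategory.bijective_of_isIso ((RelSpec.QCAlg.directImage (A.π ≫ f)).gammaMap.app (op U))

theorem isIso_toCone_app {U : Y.Opens} (hU : IsAffineOpen U)
    (h : Γ((RelSpec.QCAlg.directImage (A.π ≫ f)).spec, (RelSpec.QCAlg.directImage (A.π ≫ f)).π ⁻¹ᵁ U)) :
    IsIso ((toCone f (A := A)).app ((RelSpec.QCAlg.directImage (A.π ≫ f)).spec.basicOpen h)) :=
  isIso_app_basicOpen _ (hU.preimage _) (RelSpecX.preimage_eq _ _ _ (toCone_π f) U)
    ((A.π ≫ f).isCompact_preimage hU.isCompact) ((A.π ≫ f).isQuasiSeparated_preimage hU.isQuasiSeparated)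
    (bijective_toCone f U hU) h

theorem isoOnBasis_toCone : Blanchard.IsoOnBasis (toCone f (A := A)) := by
  intro c W hcW
  obtain ⟨_, ⟨U, hU, rfl⟩, hcU, -⟩ := Y.isBasis_affineOpens.exists_subset_of_mem_open
    (Set.mem_univ ((RelSpec.QCAlg.directImage (A.π ≫ f)).π c)) isOpen_univ
  obtain ⟨h, hle, hch⟩ := (hU.preimage (RelSpec.QCAlg.directImage (A.π ≫ f)).π).exists_basicOpen_le (V := W) ⟨c, hcW⟩ hcU
  exact ⟨_, hch, hle, isIso_toCone_app f hU h⟩

include hL hLq hA in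
theorem isIntegral_cone [IsIntegral X] : IsIntegral (RelSpec.QCAlg.directImage (A.π ≫ f)).spec := by
  haveI : IsIntegral ((⊤ : X.Opens) : Scheme.{u}) := IsIntegral.of_isIso X.topIso.inv
  haveI hV := isIntegral_preimage hL hLq hA (W := ⊤)
  haveI : IsIntegral A.spec :=
    haveI : IsIntegral ((⊤ : A.spec.Opens) : Scheme.{u}) := hV
    IsIntegral.of_isIso A.spec.topIso.hom
  have hinj := (isoOnBasis_toCone f (A := A)).app_injective
  haveI : IsReduced (RelSpec.QCAlg.directImage (A.π ≫ f)).spec :=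
    ⟨fun U => isReduced_of_injective ((toCone f (A := A)).app U).hom (hinj U)⟩
  have hd : DenseRange (toCone f (A := A)) := by
    refine dense_iff_inter_open.mpr fun O hO ⟨c, hc⟩ => ?_
    by_contra hne
    let U : (RelSpec.QCAlg.directImage (A.π ≫ f)).spec.Opens := ⟨O, hO⟩
    have hbot : toCone f (A := A) ⁻¹ᵁ U = ⊥ := eq_bot_iff.mpr fun v hv => (hne ⟨_, hv, v, rfl⟩).elim
    haveI : Subsingleton Γ(A.spec, toCone f (A := A) ⁻¹ᵁ U) := by rw [hbot]; infer_instance
    haveI : Subsingleton Γ((RelSpec.QCAlg.directImage (A.π ≫ f)).spec, U) := (hinj U).subsingleton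
    haveI : Nonempty U := ⟨⟨c, hc⟩⟩
    exact not_subsingleton Γ((RelSpec.QCAlg.directImage (A.π ≫ f)).spec, U) inferInstance
  haveI : IrreducibleSpace (RelSpec.QCAlg.directImage (A.π ≫ f)).spec := by
    have := ((IrreducibleSpace.isIrreducible_univ A.spec).image _
      (toCone f (A := A)).continuous.continuousOn).closure
    rw [Set.image_univ, hd.closure_range] at this
    exact (irreducibleSpace_def _).mpr this
  exact isIntegral_of_irreducibleSpace_of_isReduced _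

include hL hLq hA in
theorem isNormalScheme_cone (hloc : ∀ x : X, ∃ U : X.Opens, x ∈ U ∧ IsIntegral (U : Scheme.{u}))
    (hX : Pi1.IsNormalScheme X) : Pi1.IsNormalScheme (RelSpec.QCAlg.directImage (A.π ≫ f)).spec := by
  classical
  intro c
  obtain ⟨_, ⟨U, hU, rfl⟩, hcU, -⟩ := Y.isBasis_affineOpens.exists_subset_of_mem_open (Set.mem_univ ((RelSpec.QCAlg.directImage (A.π ≫ f)).π c)) isOpen_univ
  obtain ⟨P, W, hW, hcov, hdisj⟩ := exists_pieces hloc (T := f ⁻¹ᵁ U) (f.isCompact_preimage hU.isCompact)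
  have hind : ∀ η ∈ P, ∃ e : Γ(X, f ⁻¹ᵁ U), X.basicOpen e = W η ∧
      X.basicOpen (1 - e) = ⨆ η' : {η' // η' ∈ P ∧ η' ≠ η}, W η'.1 := by
    intro η hη
    refine exists_indicator (hW η hη).1 _ (iSup_le fun η' => (hW _ η'.2.1).1) (fun x hx => ?_) ?_
    · obtain ⟨η', hη', hx'⟩ := hcov x hx
      rcases eq_or_ne η' η with rfl | hne
      · exact Or.inl hx'
      · exact Or.inr (Opens.mem_iSup.mpr ⟨⟨η', hη', hne⟩, hx'⟩)
    · refine eq_bot_iff.mpr fun x hx => ?_
      obtain ⟨η', hx'⟩ := Opens.mem_iSup.mp hx.2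
      exact (Set.disjoint_left.mp (hdisj η hη η'.1 η'.2.1 η'.2.2.symm) hx.1 hx').elim
  choose e he1 he0 using hind
  let e' : ∀ η ∈ P, Γ(A.spec, (A.π ≫ f) ⁻¹ᵁ U) := fun η hη => (A.π.app (f ⁻¹ᵁ U)).hom (e η hη)
  have hbij := bijective_toCone f (A := A) U hU
  choose hh hhe using fun η hη => hbij.2 (e' η hη)
  have hprod : (∏ η ∈ P.attach, (1 - hh η.1 η.2)) = 0 := by
    refine hbij.1 ?_
    rw [map_prod, map_zero]
    have hX0 : (∏ η ∈ P.attach, (1 - e η.1 η.2)) = 0 := by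
      haveI : ∀ x : X, _root_.IsReduced (X.presheaf.stalk x) := fun x => by haveI := (hX x).1; infer_instance
      haveI : IsReduced X := isReduced_of_isReduced_stalk X
      refine eq_zero_of_basicOpen_eq_bot _ (eq_bot_iff.mpr fun x hx => ?_)
      obtain ⟨η, hη, hxη⟩ := hcov x (X.basicOpen_le _ hx)
      rw [← Finset.mul_prod_erase _ _ (Finset.mem_attach P ⟨η, hη⟩), Scheme.basicOpen_mul] at hx
      have h1 := hx.1
      rw [he0 η hη] at h1
      obtain ⟨η', hx'⟩ := Opens.mem_iSup.mp h1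
      exact (Set.disjoint_left.mp (hdisj η hη η'.1 η'.2.1 η'.2.2.symm) hxη hx').elim
    calc (∏ η ∈ P.attach, _) = ∏ η ∈ P.attach, (A.π.app (f ⁻¹ᵁ U)).hom (1 - e η.1 η.2) :=
          Finset.prod_congr rfl fun η _ => by rw [map_sub, map_one, hhe, map_sub, map_one]
      _ = 0 := by rw [← map_prod, hX0, map_zero]
  obtain ⟨η, hη, hcη⟩ : ∃ η, ∃ hη : η ∈ P, c ∈ (RelSpec.QCAlg.directImage (A.π ≫ f)).spec.basicOpen (hh η hη) := by
    by_contra hn
    push Not at hn
    have hu : ∀ η : {η // η ∈ P}, IsUnit (((RelSpec.QCAlg.directImage (A.π ≫ f)).spec.presheaf.germ ((RelSpec.QCAlg.directImage (A.π ≫ f)).π ⁻¹ᵁ U) c hcU).hom (1 - hh η.1 η.2)) := fun η => by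
      rw [map_sub, map_one]
      refine IsLocalRing.isUnit_one_sub_self_of_mem_nonunits _ fun hu => hn η.1 η.2 ?_
      exact ((RelSpec.QCAlg.directImage (A.π ≫ f)).spec.mem_basicOpen (hh η.1 η.2) c hcU).mpr hu
    have := IsUnit.prod_iff.mpr fun η (_ : η ∈ P.attach) => hu η
    rw [← map_prod, hprod, map_zero] at this
    exact not_isUnit_zero this
  haveI := (hW η hη).2
  haveI hint := isIntegral_preimage hL hLq hA (W := W η)
  have hpre : A.spec.basicOpen (e' η hη) = A.π ⁻¹ᵁ W η := by rw [← he1 η hη, Scheme.preimage_basicOpen]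
  have hpre' : toCone f (A := A) ⁻¹ᵁ (RelSpec.QCAlg.directImage (A.π ≫ f)).spec.basicOpen (hh η hη) = A.π ⁻¹ᵁ W η := by
    rw [← hpre, ← hhe η hη, Scheme.Hom.appLE, CommRingCat.comp_apply, Scheme.basicOpen_res,
      ← Scheme.preimage_basicOpen, inf_eq_right.mpr]
    intro v hv
    exact (RelSpecX.preimage_eq _ _ _ (toCone_π f) U).ge ((RelSpec.QCAlg.directImage (A.π ≫ f)).spec.basicOpen_le (hh η hη) hv)
  haveI := isIso_toCone_app f (A := A) hU (hh η hη)
  let ψ : Γ((RelSpec.QCAlg.directImage (A.π ≫ f)).spec, (RelSpec.QCAlg.directImage (A.π ≫ f)).spec.basicOpen (hh η hη)) ≃+* Γ(A.spec, A.π ⁻¹ᵁ W η) :=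
    (asIso ((toCone f (A := A)).app ((RelSpec.QCAlg.directImage (A.π ≫ f)).spec.basicOpen (hh η hη))) ≪≫
      A.spec.presheaf.mapIso (eqToIso hpre'.symm).op).commRingCatIsoToRingEquiv
  haveI : IsDomain Γ(A.spec, A.π ⁻¹ᵁ W η) := by
    haveI : Nonempty (⊤ : ((A.π ⁻¹ᵁ W η : A.spec.Opens) : Scheme.{u}).Opens) :=
      ⟨⟨(inferInstance : Nonempty ((A.π ⁻¹ᵁ W η : A.spec.Opens) : Scheme.{u})).some, trivial⟩⟩
    exact MulEquiv.isDomain _ (A.π ⁻¹ᵁ W η).topIso.commRingCatIsoToRingEquiv.symm.toMulEquiv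
  haveI : IsIntegrallyClosed Γ(A.spec, A.π ⁻¹ᵁ W η) :=
    NeronHDLib.isIntegrallyClosed_sections (isNormalScheme_spec hL hLq hA hX hloc) _
  haveI : IsDomain Γ((RelSpec.QCAlg.directImage (A.π ≫ f)).spec, (RelSpec.QCAlg.directImage (A.π ≫ f)).spec.basicOpen (hh η hη)) := MulEquiv.isDomain _ ψ.toMulEquiv
  haveI : IsIntegrallyClosed Γ((RelSpec.QCAlg.directImage (A.π ≫ f)).spec, (RelSpec.QCAlg.directImage (A.π ≫ f)).spec.basicOpen (hh η hη)) := IsIntegrallyClosed.of_equiv ψ.symm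
  exact stalk_of_affine ((hU.preimage (RelSpec.QCAlg.directImage (A.π ≫ f)).π).basicOpen _) hcη

end Groth.Agent.ContrX
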