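import Groth.Agent.ContrX.LineChart
import Groth.Agent.SymX.PowElt
import Groth.Agent.AmpleX.Sect
import Groth.Agent.AmpleX.Rel

/-!
# A line bundle contracting its zero section is relatively ample
-/

universe u

open CategoryTheory CategoryTheory.Limits AlgebraicGeometry TopologicalSpace Opposite Polynomial
open scoped HomogeneousIdeal

set_option backward.isDefEq.respectTransparency false
set_option backward.isDefEq.respectTransparency.types false
set_option linter.unusedSectionVars false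
set_option linter.style.haveILetI false

noncomputable section

namespace Groth.Agent.ContrX

open Groth.Agent

variable {X : Scheme.{u}} {L : X.Modules} {𝒜 : RelProj.QCGrAlg X} {j : L ⟶ 𝒜.toModule}
  (hL : PicF.IsInvertible L) (hLq : Coh.IsQCoh L) (hA : RelProj.IsGrSymAlg L 𝒜 j) (h0 : RelCone.StrZeroBij 𝒜)
  (aug : 𝒜.toQCAlg ⟶ RelSpec.QCAlg.unit X) (haug : RelCone.IsAugmentation 𝒜 aug) {j0 : X ⟶ 𝒜.toQCAlg.spec}
  (hj0 : RelCone.IsVertex 𝒜 aug j0)
  {W : X.Opens} {O : 𝒜.toQCAlg.spec.Opens} (hW : ∀ x ∈ W, j0 x ∈ O) (F : Γ(𝒜.toQCAlg.spec, O))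

include hA h0 haug hj0 hW in
lemma chart_mem {a : X.Opens} (ha : IsAffineOpen a) (ha' : a ≤ W) {e : Γ(L, a)} (he : InvX.IsFrame e)
    (t : Spec (CommRingCat.of Γ(X, a)[X])) (ht : (Polynomial.X : Γ(X, a)[X]) ∈ t.asIdeal) :
    chart hLq hA ha he t ∈ O := by
  obtain ⟨x, hx⟩ := (chart_mem_range_iff hLq hA h0 aug haug hj0 ha he t).mpr ht
  have h := congrArg 𝒜.toQCAlg.π hx
  rw [← Scheme.Hom.comp_apply, hj0.comp_π, ← Scheme.Hom.comp_apply, chart_π hLq hA ha he, Scheme.Hom.comp_apply] at h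
  rw [← hx]
  refine hW x (ha' ?_)
  rw [show x = _ from h]
  exact ha.range_fromSpec.le ⟨_, rfl⟩

include hA h0 haug hj0 hW in
lemma fibreChart_mem {a : X.Opens} (ha : IsAffineOpen a) {e : Γ(L, a)} (he : InvX.IsFrame e) (𝔭 : Spec Γ(X, a))
    (h𝔭 : ha.fromSpec 𝔭 ∈ W) (t : Spec (CommRingCat.of 𝔭.asIdeal.ResidueField[X]))
    (ht : (Polynomial.X : 𝔭.asIdeal.ResidueField[X]) ∈ t.asIdeal) : fibreChart hLq hA ha he 𝔭 t ∈ O := by
  obtain ⟨x, hx⟩ := fibreChart_mem_range hLq hA h0 aug haug hj0 ha he 𝔭 t ht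
  have h := congrArg 𝒜.toQCAlg.π hx
  rw [← Scheme.Hom.comp_apply, hj0.comp_π, fibreChart_π] at h
  rw [← hx]
  exact hW x ((show x = _ from h) ▸ h𝔭)

include hL hA h0 haug hj0 hW in
/-- The `n`-th coefficient of a function near the zero section, as a section of the tensor power. -/
theorem exists_coeff_section (n : ℕ) :
    ∃ s : Γ(CohB1.tensorPow L n, W), ∀ (a : X.Opens) (ha : IsAffineOpen a) (ha' : a ≤ W) (e : Γ(L, a))
      (he : InvX.IsFrame e), AModX.res _ ha' s =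
        jetCoeff (chart hLq hA ha he) (chart_mem hLq hA h0 aug haug hj0 hW ha ha' he) F n • AmpleX.powElt e n := by
  let r : ∀ (a : X.Opens) (ha : IsAffineOpen a) (ha' : a ≤ W) (e : Γ(L, a)) (he : InvX.IsFrame e), Γ(X, a) :=
    fun a ha ha' e he => jetCoeff (chart hLq hA ha he) (chart_mem hLq hA h0 aug haug hj0 hW ha ha' he) F n
  have compat : ∀ (a b : X.Opens) (ha : IsAffineOpen a) (hb : IsAffineOpen b) (h : b ≤ a) (ha' : a ≤ W) (hb' : b ≤ W)
      (e : Γ(L, a)) (he : InvX.IsFrame e) (f : Γ(L, b)) (hf : InvX.IsFrame f),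
      AModX.res _ h (r a ha ha' e he • AmpleX.powElt e n) = r b hb hb' f hf • AmpleX.powElt f n := by
    intro a b ha hb h ha' hb' e he f hf
    obtain ⟨u, hu⟩ := hf.exists_coord le_rfl (AModX.res L h e)
    rw [AModX.res_self] at hu
    have hr : r b hb hb' f hf = AModX.resR h (r a ha ha' e he) * u ^ n :=
      jetCoeff_scale (AModX.resR h) u _ _ _ _ (chart_change hLq hA ha hb h he hf hu) F n
    rw [AModX.res_smul, AmpleX.res_powElt, hu, AmpleX.powElt_smul, hr, mul_smul]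
  choose U hxU e he using fun x : X => InvX.exists_frame hL x
  have hloc : ∀ x : (W : Set X), ∃ a : X.Opens, IsAffineOpen a ∧ x.1 ∈ a ∧ a ≤ W ∧ a ≤ U x.1 := fun x => by
    obtain ⟨_, ⟨a, ha, rfl⟩, hxa, hsub⟩ := X.isBasis_affineOpens.exists_subset_of_mem_open
      (a := x.1) (u := ((U x.1 ⊓ W : X.Opens) : Set X)) ⟨hxU x.1, x.2⟩ (U x.1 ⊓ W).isOpen
    exact ⟨a, ha, hxa, fun y hy => (hsub hy).2, fun y hy => (hsub hy).1⟩
  choose a ha hxa haW haU using hloc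
  let e' : ∀ x : (W : Set X), Γ(L, a x) := fun x => AModX.res L (haU x) (e x.1)
  have he' : ∀ x, InvX.IsFrame (e' x) := fun x => (he x.1).res (haU x)
  obtain ⟨s, hs, -⟩ := AModX.existsUnique_glue (M := CohB1.tensorPow L n) (V := W) a haW
    (fun p hp => ⟨⟨p, hp⟩, hxa ⟨p, hp⟩⟩) (fun x => r (a x) (ha x) (haW x) (e' x) (he' x) • AmpleX.powElt (e' x) n)
    fun x y => AModX.eq_of_locally _ _ fun p hp => by
      obtain ⟨_, ⟨b, hb, rfl⟩, hpb, hsub⟩ := X.isBasis_affineOpens.exists_subset_of_mem_open hp (a x ⊓ a y).isOpen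
      have hx : b ≤ a x := fun q hq => (hsub hq).1
      have hy : b ≤ a y := fun q hq => (hsub hq).2
      refine ⟨b, fun q hq => hsub hq, hpb, ?_⟩
      rw [AModX.res_res, AModX.res_res, compat _ b (ha x) hb hx (haW x) (hx.trans (haW x)) _ (he' x) _ ((he' x).res hx),
        compat _ b (ha y) hb hy (haW y) (hx.trans (haW x)) _ (he' y) _ ((he' x).res hx)]
  refine ⟨s, fun b hb hb' f hf => AModX.eq_of_locally _ _ fun p hp => ?_⟩
  let x : (W : Set X) := ⟨p, hb' hp⟩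
  obtain ⟨_, ⟨c, hc, rfl⟩, hpc, hsub⟩ := X.isBasis_affineOpens.exists_subset_of_mem_open
    (a := p) (u := ((a x ⊓ b : X.Opens) : Set X)) ⟨hxa x, hp⟩ (a x ⊓ b).isOpen
  have hx : c ≤ a x := fun q hq => (hsub hq).1
  have hcb : c ≤ b := fun q hq => (hsub hq).2
  refine ⟨c, hcb, hpc, ?_⟩
  rw [AModX.res_res, ← AModX.res_res (haW x) hx, hs x,
    compat _ c (ha x) hc hx (haW x) (hcb.trans hb') _ (he' x) _ (hf.res hcb)]
  exact (compat b c hb hc hcb hb' (hcb.trans hb') f hf _ (hf.res hcb)).symm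

include hL hA h0 haug hj0 hW in
/-- The locus of the coefficient sections, pointwise. -/
theorem mem_locus_coeff_iff {n : ℕ} {s : Γ(CohB1.tensorPow L n, W)}
    (hs : ∀ (a : X.Opens) (ha : IsAffineOpen a) (ha' : a ≤ W) (e : Γ(L, a))
      (he : InvX.IsFrame e), AModX.res _ ha' s =
        jetCoeff (chart hLq hA ha he) (chart_mem hLq hA h0 aug haug hj0 hW ha ha' he) F n • AmpleX.powElt e n)
    {a : X.Opens} (ha : IsAffineOpen a) (ha' : a ≤ W) {e : Γ(L, a)} (he : InvX.IsFrame e) (𝔭 : Spec Γ(X, a)) :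
    ha.fromSpec 𝔭 ∈ AmpleX.locus s ↔
      jetCoeff (fibreChart hLq hA ha he 𝔭)
        (fibreChart_mem hLq hA h0 aug haug hj0 hW ha he 𝔭 (ha' (ha.range_fromSpec.le ⟨_, rfl⟩))) F n ≠ 0 := by
  have h1 := AmpleX.locus_inf s ha' (AmpleX.isFrame_powElt he n) (hs a ha ha' e he)
  have hmem : ha.fromSpec 𝔭 ∈ a := ha.range_fromSpec.le ⟨𝔭, rfl⟩
  rw [jetCoeff_scale (algebraMap Γ(X, a) 𝔭.asIdeal.ResidueField) 1 (chart hLq hA ha he)
    (chart_mem hLq hA h0 aug haug hj0 hW ha ha' he) (fibreChart hLq hA ha he 𝔭) _ rfl, one_pow, mul_one, Ne, Ideal.algebraMap_residueField_eq_zero]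
  rw [show ha.fromSpec 𝔭 ∈ AmpleX.locus s ↔ ha.fromSpec 𝔭 ∈ AmpleX.locus s ⊓ a from ⟨fun h => ⟨h, hmem⟩, fun h => h.1⟩,
    h1]
  exact SetLike.ext_iff.mp (ha.fromSpec_preimage_basicOpen _) 𝔭

variable {Y C : Scheme.{u}} (p : X ⟶ Y) [IsSeparated p] [QuasiCompact p] (g : C ⟶ Y) (ε : Y ⟶ C)
  (q : 𝒜.toQCAlg.spec ⟶ C) (V0 : 𝒜.toQCAlg.spec.Opens)

include hL hLq hA h0 haug hj0 in
/-- A contraction of the zero section makes the line bundle relatively ample. -/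
theorem isRelAmple_of_contraction (hV0 : (V0 : Set 𝒜.toQCAlg.spec) = (Set.range j0)ᶜ)
    (hεg : ε ≫ g = 𝟙 Y) (hqg : q ≫ g = 𝒜.toQCAlg.π ≫ p) (hjq : j0 ≫ q = p ≫ ε) [IsOpenImmersion (V0.ι ≫ q)]
    (hdisj : Set.range (V0.ι ≫ q) ∩ Set.range ε = ∅) : RelAmple.IsRelAmple p L := by
  refine ⟨inferInstance, fun V => AmpleX.isAmple_preimage_of_local hL V.2 fun x hxV => ?_⟩
  -- an affine neighbourhood of the contracted point
  have hgε : ∀ y, g (ε y) = y := fun y => by rw [← Scheme.Hom.comp_apply, hεg]; rfl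
  obtain ⟨_, ⟨U, hU, rfl⟩, hεU, hUsub⟩ := C.isBasis_affineOpens.exists_subset_of_mem_open
    (a := ε (p x)) (u := ((g ⁻¹ᵁ V.1 : C.Opens) : Set C))
    (show g (ε (p x)) ∈ V.1 from (hgε _).symm ▸ hxV) (g ⁻¹ᵁ V.1).isOpen
  obtain ⟨r, hrle, hxr⟩ := V.2.exists_basicOpen_le (V := ε ⁻¹ᵁ U) ⟨p x, hεU⟩ hxV
  let U' := C.basicOpen ((g.appLE V.1 U hUsub).hom r)
  have hU' : IsAffineOpen U' := hU.basicOpen _
  have hU'eq : U' = U ⊓ g ⁻¹ᵁ Y.basicOpen r := by
    show C.basicOpen ((g.appLE V.1 U hUsub).hom r) = _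
    rw [Scheme.Hom.appLE, CommRingCat.comp_apply, Scheme.basicOpen_res, ← Scheme.preimage_basicOpen]
  let W : X.Opens := p ⁻¹ᵁ Y.basicOpen r
  let O : 𝒜.toQCAlg.spec.Opens := q ⁻¹ᵁ U'
  have hεmem : ∀ y ∈ Y.basicOpen r, ε y ∈ U' := fun y hy =>
    hU'eq.ge ⟨hrle hy, show g (ε y) ∈ _ from (hgε y).symm ▸ hy⟩
  have hW : ∀ z ∈ W, j0 z ∈ O := fun z hz => by
    show q (j0 z) ∈ U'
    rw [← Scheme.Hom.comp_apply, hjq, Scheme.Hom.comp_apply]
    exact hεmem _ hz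
  have hxW : x ∈ W := hxr
  -- an affine frame at the point
  obtain ⟨N, hxN, e₀, he₀⟩ := InvX.exists_frame hL x
  obtain ⟨_, ⟨a, ha, rfl⟩, hxa, hasub⟩ := X.isBasis_affineOpens.exists_subset_of_mem_open
    (a := x) (u := ((N ⊓ W : X.Opens) : Set X)) ⟨hxN, hxW⟩ (N ⊓ W).isOpen
  have haW : a ≤ W := fun z hz => (hasub hz).2
  let e := AModX.res L (show a ≤ N from fun z hz => (hasub hz).1) e₀
  have he : InvX.IsFrame e := he₀.res _
  obtain ⟨𝔭, hx𝔭⟩ := ha.range_fromSpec.ge hxa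
  let Z : Set X := (a : Set X)ᶜ
  let K₁ : Set C := (fun v => q v) '' ((V0 : Set 𝒜.toQCAlg.spec) ∩ 𝒜.toQCAlg.π ⁻¹' Z)
  let v := fibreChart hLq hA ha he 𝔭 (gen _)
  have hvV0 : v ∈ V0 := by
    show v ∈ (V0 : Set 𝒜.toQCAlg.spec)
    rw [hV0]
    exact fibreChart_gen_notMem hLq hA h0 aug haug hj0 ha he 𝔭
  have hvπ : 𝒜.toQCAlg.π v = x := (fibreChart_π hLq hA ha he 𝔭 _).trans hx𝔭
  have hvO : v ∈ O := by
    refine (show IsOpen ((fibreChart hLq hA ha he 𝔭) ⁻¹ᵁ O : Set _) from ((fibreChart hLq hA ha he 𝔭) ⁻¹ᵁ O).isOpen).stableUnderGeneralization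
      (show gen 𝔭.asIdeal.ResidueField ⤳ origin 𝔭.asIdeal.ResidueField from
        (PrimeSpectrum.le_iff_specializes _ _).mp (show (⊥ : Ideal _) ≤ _ from bot_le)) ?_
    obtain ⟨z, hz⟩ := fibreChart_mem_range hLq hA h0 aug haug hj0 ha he 𝔭 (origin _) (Ideal.subset_span rfl)
    show fibreChart hLq hA ha he 𝔭 (origin _) ∈ O
    have h := congrArg 𝒜.toQCAlg.π hz
    rw [← Scheme.Hom.comp_apply, hj0.comp_π, fibreChart_π, hx𝔭] at h
    rw [← hz]
    exact hW z ((show z = x from h) ▸ hxW)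
  -- the closed set to avoid
  have hεcl : ∀ c ∈ U', c ∉ (fun y => ε y) '' (Y.basicOpen r : Set Y) → c ∉ Set.range ε := by
    rintro c hc hn ⟨y, rfl⟩
    exact hn ⟨y, (hgε y) ▸ (hU'eq.le hc).2, rfl⟩
  have hεclosed : IsClosed (Subtype.val ⁻¹' Set.range ε : Set (U' : Set C)) := by
    haveI : IsAffine (U' : Scheme.{u}) := hU'
    haveI : IsAffine (Y.basicOpen r : Scheme.{u}) := V.2.basicOpen r
    let g' : (U' : Scheme.{u}) ⟶ (Y.basicOpen r : Scheme.{u}) :=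
      g.resLE (Y.basicOpen r) U' (fun c hc => (hU'eq.le hc).2)
    let ε' : (Y.basicOpen r : Scheme.{u}) ⟶ (U' : Scheme.{u}) :=
      ε.resLE U' (Y.basicOpen r) (fun y hy => hεmem y hy)
    have hsec : ε' ≫ g' = 𝟙 _ := by
      rw [← cancel_mono (Y.basicOpen r).ι, Category.assoc, Scheme.Hom.resLE_comp_ι, Scheme.Hom.resLE_comp_ι_assoc,
        hεg, Category.comp_id, Category.id_comp]
    haveI : IsClosedImmersion (ε' ≫ g') := by rw [hsec]; infer_instance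
    haveI := IsClosedImmersion.of_comp ε' g'
    suffices e : (Subtype.val ⁻¹' Set.range ε : Set (U' : Set C)) = Set.range ε' from
      e ▸ ε'.isClosedEmbedding.isClosed_range
    refine Set.ext fun c => ?_
    constructor
    · rintro ⟨y, hy⟩
      have hy' : y ∈ Y.basicOpen r := by
        have := (hU'eq.le c.2).2
        rw [show (c.1 : C) = ε y from hy.symm] at this
        exact (hgε y) ▸ this
      refine ⟨⟨y, hy'⟩, Subtype.ext ?_⟩
      exact (congrArg (fun k : (Y.basicOpen r : Scheme.{u}) ⟶ C => k ⟨y, hy'⟩)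
        (Scheme.Hom.resLE_comp_ι ε _)).trans hy
    · rintro ⟨y, rfl⟩
      exact ⟨y.1, (congrArg (fun k : (Y.basicOpen r : Scheme.{u}) ⟶ C => k y)
        (Scheme.Hom.resLE_comp_ι ε _)).symm⟩
  have hqv : q v ∉ closure K₁ := by
    intro hcl
    have hemb := (V0.ι ≫ q).isOpenEmbedding
    have himg : K₁ = (V0.ι ≫ q) '' ((𝒜.toQCAlg.π ∘ Subtype.val) ⁻¹' Z : Set (V0 : Scheme.{u})) := by
      ext c
      constructor
      · rintro ⟨w, ⟨hw, hwZ⟩, rfl⟩
        exact ⟨⟨w, hw⟩, hwZ, Scheme.Hom.comp_apply _ _ _⟩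
      · rintro ⟨w, hw, rfl⟩
        exact ⟨w.1, ⟨w.2, hw⟩, (Scheme.Hom.comp_apply V0.ι q w).symm⟩
    rw [himg, show q v = (V0.ι ≫ q) ⟨v, hvV0⟩ from (Scheme.Hom.comp_apply _ _ _).symm,
      ← Set.mem_preimage, ← hemb.isEmbedding.closure_eq_preimage_closure_image] at hcl
    have hclosed : IsClosed ((𝒜.toQCAlg.π ∘ Subtype.val) ⁻¹' Z : Set (V0 : Scheme.{u})) :=
      a.isOpen.isClosed_compl.preimage (𝒜.toQCAlg.π.continuous.comp continuous_subtype_val)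
    rw [hclosed.closure_eq] at hcl
    exact hcl (show 𝒜.toQCAlg.π v ∈ a from hvπ.symm ▸ hxa)
  have hqvε : q v ∉ Set.range ε := fun h => Set.eq_empty_iff_forall_notMem.mp hdisj (q v)
    ⟨⟨⟨v, hvV0⟩, Scheme.Hom.comp_apply _ _ _⟩, h⟩
  -- a function
  let G : C.Opens := ⟨(U' : Set C) ∩ ((closure K₁)ᶜ ∩ (Set.range ε)ᶜ), by
    have h1 : IsOpen (Subtype.val '' (Subtype.val ⁻¹' Set.range ε : Set (U' : Set C))ᶜ) :=
      U'.isOpen.isOpenMap_subtype_val _ hεclosed.isOpen_compl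
    have h2 : Subtype.val '' (Subtype.val ⁻¹' Set.range ε : Set (U' : Set C))ᶜ = (U' : Set C) ∩ (Set.range ε)ᶜ := by
      rw [← Set.preimage_compl, Subtype.image_preimage_coe]
    rw [show (U' : Set C) ∩ ((closure K₁)ᶜ ∩ (Set.range ε)ᶜ) = (closure K₁)ᶜ ∩ ((U' : Set C) ∩ (Set.range ε)ᶜ) by
      rw [Set.inter_left_comm]]
    exact isClosed_closure.isOpen_compl.inter (h2 ▸ h1)⟩
  obtain ⟨h, hhle, hqh⟩ := hU'.exists_basicOpen_le (V := G) ⟨q v, hvO, hqv, hqvε⟩ hvO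
  let F : Γ(𝒜.toQCAlg.spec, O) := (q.app U').hom h
  have hF : ∀ w, w ∈ 𝒜.toQCAlg.spec.basicOpen F → w ∈ V0 ∧ 𝒜.toQCAlg.π w ∈ a := by
    intro w hw
    rw [← Scheme.preimage_basicOpen] at hw
    obtain ⟨-, hw₁, hw₂⟩ := hhle hw
    have hwV0 : w ∈ V0 := by
      by_contra hne
      have : w ∈ Set.range j0 := by
        by_contra hn
        exact hne (hV0.ge hn : w ∈ (V0 : Set _))
      obtain ⟨z, rfl⟩ := this
      refine hw₂ ⟨p z, ?_⟩
      rw [← Scheme.Hom.comp_apply, ← Scheme.Hom.comp_apply, hjq]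
    refine ⟨hwV0, ?_⟩
    by_contra hne
    exact hw₁ (subset_closure ⟨w, ⟨hwV0, hne⟩, rfl⟩)
  have hvF : v ∈ 𝒜.toQCAlg.spec.basicOpen F := by
    rw [← Scheme.preimage_basicOpen]; exact hqh
  -- a coefficient
  choose s hs using exists_coeff_section hL hLq hA h0 aug haug hj0 hW F
  have hn : ∃ n, x ∈ AmpleX.locus (s n) := by
    by_contra! hall
    refine ((gen_notMem_iff _ (fibreChart_mem hLq hA h0 aug haug hj0 hW ha he 𝔭 (haW (ha.range_fromSpec.le ⟨_, rfl⟩))) F).mpr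
      fun n => ?_) hvF
    have h := hall n
    rw [← hx𝔭, mem_locus_coeff_iff hL hLq hA h0 aug haug hj0 hW F (hs n) ha haW he 𝔭, not_not] at h
    exact h
  obtain ⟨n, hxn⟩ := hn
  have hle : ∀ z ∈ W, z ∈ AmpleX.locus (s n) → z ∈ a ∧ 0 < n := by
    intro z hzW hz
    obtain ⟨N', hzN', f₀, hf₀⟩ := InvX.exists_frame hL z
    obtain ⟨_, ⟨b, hb, rfl⟩, hzb, hbsub⟩ := X.isBasis_affineOpens.exists_subset_of_mem_open
      (a := z) (u := ((N' ⊓ W : X.Opens) : Set X)) ⟨hzN', hzW⟩ (N' ⊓ W).isOpen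
    have hbW : b ≤ W := fun y hy => (hbsub hy).2
    have hf := hf₀.res (show b ≤ N' from fun y hy => (hbsub hy).1)
    obtain ⟨𝔮, hz𝔮⟩ := hb.range_fromSpec.ge hzb
    rw [← hz𝔮, mem_locus_coeff_iff hL hLq hA h0 aug haug hj0 hW F (hs n) hb hbW hf 𝔮] at hz
    constructor
    · by_contra hza
      refine hz (jetCoeff_eq_zero _ _ F (fun t _ ht => hza ?_) n)
      have := (hF _ ht).2
      rwa [fibreChart_π, hz𝔮] at this
    · refine Nat.pos_of_ne_zero fun hn0 => hz ?_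
      subst hn0
      -- the constant term
      let c := fibreChart hLq hA hb hf 𝔮
      have hnb : ∀ t, (nbhd 𝔮.asIdeal.ResidueField 0 ≫ c) t ∉ 𝒜.toQCAlg.spec.basicOpen F := fun t ht => by
        have hr := fibreChart_mem_range hLq hA h0 aug haug hj0 hb hf 𝔮 _ (X_mem_nbhd 0 t)
        rw [Scheme.Hom.comp_apply] at ht
        exact (hV0.le (hF _ ht).1) hr
      have hnil : IsNilpotent (pull (nbhd 𝔮.asIdeal.ResidueField 0 ≫ c) (nbhd_le c
          (fibreChart_mem hLq hA h0 aug haug hj0 hW hb hf 𝔮 (hbW (hb.range_fromSpec.le ⟨_, rfl⟩))) 0) F) := by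
        rw [nilpotent_iff_mem_prime]
        intro J hJ
        by_contra hne
        exact hnb ⟨J, hJ⟩ ((mem_basicOpen_iff _ _ F ⟨J, hJ⟩).mpr hne)
      obtain ⟨P, hP⟩ := Ideal.Quotient.mk_surjective (pull (nbhd 𝔮.asIdeal.ResidueField 0 ≫ c) _ F)
      obtain ⟨k, hk⟩ := hnil
      rw [jetCoeff, ← hP, jetLin_mk]
      rw [← hP, ← map_pow, Ideal.Quotient.eq_zero_iff_mem, Ideal.mem_span_singleton, pow_one,
        Polynomial.X_dvd_iff, coeff_zero_eq_eval_zero, eval_pow] at hk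
      rw [coeff_zero_eq_eval_zero]
      exact pow_eq_zero_iff'.mp hk |>.1
  refine ⟨r, n, (hle x hxW hxn).2, s n, hxn, ?_⟩
  have hla : AmpleX.locus (s n) ≤ a := fun z hz => (hle z (AmpleX.locus_le _ hz) hz).1
  have := AmpleX.isAffineOpen_inf_locus (InvX.isInvertible_tensorPow hL n) ha (s n) haW
  rwa [inf_eq_right.mpr hla] at this

end Groth.Agent.ContrX
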