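import Groth.Agent.ContrX.Contraction
import Groth.Agent.SymX.Gen
import Groth.Agent.QCoh.LocFree
import Groth.Agent.H23.PullPush

/-!
# The contraction of the zero section over a proper morphism
-/

universe u

open CategoryTheory CategoryTheory.Limits AlgebraicGeometry TopologicalSpace Opposite Polynomial
open scoped HomogeneousIdeal

set_option backward.isDefEq.respectTransparency false
set_option backward.isDefEq.respectTransparency.types false
set_option linter.style.haveILetI false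
set_option linter.unusedSectionVars false

noncomputable section

namespace Groth.Agent.ContrX

open Groth.Agent

lemma appLE_eq_of_eq {V T : Scheme.{u}} {k k' : V ⟶ T} (e : k = k') (O : T.Opens) (O' : V.Opens) (h : O' ≤ k ⁻¹ᵁ O) :
    k.appLE O O' h = k'.appLE O O' (e ▸ h) := by
  subst e; rfl

variable {X Y : Scheme.{u}} (p : X ⟶ Y) [IsProper p] {L : X.Modules} {𝒜 : RelProj.QCGrAlg X} {j : L ⟶ 𝒜.toModule}
  (j0 : X ⟶ 𝒜.toQCAlg.spec) (hj0π : j0 ≫ 𝒜.toQCAlg.π = 𝟙 X)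
  (hL : PicF.IsInvertible L) (hLq : Coh.IsQCoh L) (hA : RelProj.IsGrSymAlg L 𝒜 j)
  (h0 : RelCone.StrZeroBij 𝒜) (aug : 𝒜.toQCAlg ⟶ RelSpec.QCAlg.unit X)
  (haug : RelCone.IsAugmentation 𝒜 aug) (hj0 : RelCone.IsVertex 𝒜 aug j0)
  (V0 : 𝒜.toQCAlg.spec.Opens) (hV0 : (V0 : Set 𝒜.toQCAlg.spec) = (Set.range j0)ᶜ)

/-- The bundle, over the pullback of the contraction. -/
def toPullback : 𝒜.toQCAlg.spec ⟶ pullback p (contrπ p j0 hj0π) :=
  pullback.lift 𝒜.toQCAlg.π (contrMap p j0 hj0π) (contrMap_comp p j0 hj0π).symm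

lemma toPullback_fst : toPullback p j0 hj0π ≫ pullback.fst p (contrπ p j0 hj0π) = 𝒜.toQCAlg.π := pullback.lift_fst _ _ _

lemma toPullback_snd : toPullback p j0 hj0π ≫ pullback.snd p (contrπ p j0 hj0π) = contrMap p j0 hj0π :=
  pullback.lift_snd _ _ _

include hL hLq hA h0 haug hj0 in
theorem isFinite_toPullback (hamp : RelAmple.IsRelAmple p L) : IsFinite (toPullback p j0 hj0π) := by
  set h := toPullback p j0 hj0π with hh
  set fst := pullback.fst p (contrπ p j0 hj0π) with hfst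
  haveI : IsAffineHom (h ≫ fst) := by rw [toPullback_fst]; infer_instance
  haveI : IsAffineHom h := IsAffineHom.of_comp h fst
  haveI : LocallyOfFiniteType (h ≫ fst) := by
    rw [toPullback_fst]
    exact SymX.locallyOfFiniteType_π hLq
      (QCoh.isFT_of_isFP (QCoh.isFP_of_isFinLocFree (H23.PullPush.isFinLocFree_of_isInvertible hL))) hA.1
  haveI : LocallyOfFiniteType h := locallyOfFiniteType_of_comp h fst
  refine (IsFinite.iff_isIntegralHom_and_locallyOfFiniteType h).mpr ⟨?_, inferInstance⟩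
  choose U hU n hn a f hxa haff hf hf0 using exists_sigma p j0 hj0π hL hLq hA h0 aug haug hj0 hamp
  have hloc : ∀ x : X, ∃ (b : X.Opens) (_ : IsAffineOpen b) (hbU : b ≤ p ⁻¹ᵁ U x) (e : Γ(L, b)) (r : Γ(X, b)),
      x ∈ b ∧ InvX.IsFrame e ∧ IsUnit r ∧ AModX.res _ hbU (a x) = r • AmpleX.powElt e (n x) := by
    intro x
    obtain ⟨b', hb', hb'U, e, r, hxb', he, hr⟩ :=
      SymX.exists_local_frame hA hL (a x) (AmpleX.locus_le _ (hxa x))
    obtain ⟨_, ⟨b, hb, rfl⟩, hxb, hsub⟩ := X.isBasis_affineOpens.exists_subset_of_mem_open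
      (a := x) (u := ((b' ⊓ AmpleX.locus (a x) : X.Opens) : Set X)) ⟨hxb', hxa x⟩ (b' ⊓ AmpleX.locus (a x)).isOpen
    have h1 : b ≤ b' := fun y hy => (hsub hy).1
    have h2 : b ≤ AmpleX.locus (a x) := fun y hy => (hsub hy).2
    have hbU : b ≤ p ⁻¹ᵁ U x := h1.trans hb'U
    have hr' : AModX.res _ hbU (a x) = AModX.resR h1 r • AmpleX.powElt (AModX.res L h1 e) (n x) := by
      rw [← AModX.res_res hb'U h1, hr, AModX.res_smul, AmpleX.res_powElt]
    refine ⟨b, hb, hbU, _, _, hxb, he.res h1, ?_, hr'⟩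
    have hloc := AmpleX.locus_inf (a x) hbU (AmpleX.isFrame_powElt (he.res h1) (n x)) hr'
    rw [inf_eq_right.mpr h2] at hloc
    by_contra hnu
    obtain ⟨M, hM, hrM⟩ := exists_max_ideal_of_mem_nonunits (show AModX.resR h1 r ∈ nonunits _ from hnu)
    have hmem : hb.fromSpec ⟨M, hM.isPrime⟩ ∈ b := hb.range_fromSpec.le ⟨_, rfl⟩
    have hmem' : hb.fromSpec ⟨M, hM.isPrime⟩ ∈ X.basicOpen (AModX.resR h1 r) := hloc.le hmem
    exact (SetLike.ext_iff.mp (hb.fromSpec_preimage_basicOpen _) _).mp hmem' hrM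
  choose b hb hbU e r hxb he hru hr using hloc
  haveI : IsAffineHom fst := MorphismProperty.pullback_fst _ _ inferInstance
  refine HasAffineProperty.of_iSup_eq_top (P := @IsIntegralHom)
    (fun x : X => (⟨fst ⁻¹ᵁ b x, (hb x).preimage fst⟩ : (pullback p (contrπ p j0 hj0π)).affineOpens))
    (eq_top_iff.mpr fun z _ => Opens.mem_iSup.mpr ⟨fst z, hxb _⟩) fun x => ?_
  have hN : IsAffineOpen (fst ⁻¹ᵁ b x) := (hb x).preimage fst
  refine ⟨hN.preimage h, ?_⟩
  show ((h ∣_ (fst ⁻¹ᵁ b x)).app ⊤).hom.IsIntegral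
  rw [morphismRestrict_app, Scheme.Hom.app_eq_appLE, Scheme.Hom.appLE_map]
  refine (Scheme.Hom.appLE_congr h _ (show fst ⁻¹ᵁ b x = _ by simp) (show h ⁻¹ᵁ (fst ⁻¹ᵁ b x) = _ by simp)
    (fun k => k.hom.IsIntegral)).mp (?_ : (h.appLE (fst ⁻¹ᵁ b x) (h ⁻¹ᵁ (fst ⁻¹ᵁ b x)) le_rfl).hom.IsIntegral)
  -- transport to the polynomial ring of the frame
  have hpre : 𝒜.toQCAlg.π ⁻¹ᵁ b x = h ⁻¹ᵁ (fst ⁻¹ᵁ b x) := by
    rw [← Scheme.Hom.comp_preimage, toPullback_fst]
  refine (Scheme.Hom.appLE_congr h hpre.le rfl hpre (fun k => k.hom.IsIntegral)).mp ?_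
  haveI := RelSpecX.isIso_gammaMap 𝒜.toQCAlg
  haveI : IsIso (𝒜.toQCAlg.gammaMap.app (op (b x))) := NatIso.isIso_app_of_isIso _ _
  let θ : Γ(𝒜.toQCAlg.spec, 𝒜.toQCAlg.π ⁻¹ᵁ b x) →+* Γ(X, b x)[X] :=
    (frameEquiv hLq hA (hb x) (he x)).symm.toRingHom.comp (𝒜.toQCAlg.gammaMap.app (op (b x))).hom
  have hθ : Function.Bijective θ :=
    (frameEquiv hLq hA (hb x) (he x)).symm.bijective.comp
      (ConcreteCategory.bijective_of_isIso (𝒜.toQCAlg.gammaMap.app (op (b x))))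
  let φ : Γ(pullback p (contrπ p j0 hj0π), fst ⁻¹ᵁ b x) →+* Γ(X, b x)[X] :=
    θ.comp (h.appLE (fst ⁻¹ᵁ b x) (𝒜.toQCAlg.π ⁻¹ᵁ b x) hpre.le).hom
  suffices hφ : φ.IsIntegral by
    let θe := RingEquiv.ofBijective θ hθ
    have : (h.appLE (fst ⁻¹ᵁ b x) (𝒜.toQCAlg.π ⁻¹ᵁ b x) hpre.le).hom = θe.symm.toRingHom.comp φ :=
      RingHom.ext fun z => (θe.symm_apply_apply _).symm
    rw [this]
    exact RingHom.IsIntegral.trans _ _ hφ (RingHom.isIntegral_of_surjective _ θe.symm.surjective)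
  have hC : ∀ c : Γ(X, b x), φ ((fst.appLE (b x) (fst ⁻¹ᵁ b x) le_rfl).hom c) = C c := by
    intro c
    show θ ((h.appLE (fst ⁻¹ᵁ b x) (𝒜.toQCAlg.π ⁻¹ᵁ b x) hpre.le).hom _) = _
    rw [← CommRingCat.comp_apply, Scheme.Hom.appLE_comp_appLE,
      appLE_eq_of_eq (toPullback_fst p j0 hj0π), ← Scheme.Hom.app_eq_appLE]
    refine Eq.trans ?_ (frameEquiv_symm_str hLq hA (hb x) (he x) c)
    exact congrArg (frameEquiv hLq hA (hb x) (he x)).symm
      (congrArg (fun k => (k.app (op (b x))).hom c) 𝒜.toQCAlg.π_c_gammaMap)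
  have hX : ∃ z, φ z = Polynomial.X ^ n x := by
    let snd := pullback.snd p (contrπ p j0 hj0π)
    have hsnd : fst ⁻¹ᵁ b x ≤ snd ⁻¹ᵁ (contrπ p j0 hj0π ⁻¹ᵁ U x) := by
      rw [← Scheme.Hom.comp_preimage, ← pullback.condition, Scheme.Hom.comp_preimage]
      exact Scheme.Hom.preimage_mono _ (hbU x)
    obtain ⟨v, hv⟩ := (hru x).exists_left_inv
    refine ⟨(fst.appLE (b x) (fst ⁻¹ᵁ b x) le_rfl).hom v * (snd.appLE _ (fst ⁻¹ᵁ b x) hsnd).hom (f x), ?_⟩
    have hq : φ ((snd.appLE _ (fst ⁻¹ᵁ b x) hsnd).hom (f x)) = C (r x) * Polynomial.X ^ n x := by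
      show θ ((h.appLE (fst ⁻¹ᵁ b x) (𝒜.toQCAlg.π ⁻¹ᵁ b x) hpre.le).hom _) = _
      have hle : 𝒜.toQCAlg.π ⁻¹ᵁ b x ≤ (𝒜.toQCAlg.π ≫ p) ⁻¹ᵁ U x := Scheme.Hom.preimage_mono _ (hbU x)
      have hnat : (𝒜.toQCAlg.spec.presheaf.map (homOfLE hle).op).hom
            (((inv 𝒜.toQCAlg.gammaMap).app (op (p ⁻¹ᵁ U x))).hom (SymX.elt j (a x))) =
          ((inv 𝒜.toQCAlg.gammaMap).app (op (b x))).hom
            ((𝒜.presheaf.map (homOfLE (hbU x)).op).hom (SymX.elt j (a x))) :=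
        (NatTrans.naturality_apply (inv 𝒜.toQCAlg.gammaMap) (homOfLE (hbU x)).op (SymX.elt j (a x))).symm
      rw [← CommRingCat.comp_apply, Scheme.Hom.appLE_comp_appLE,
        appLE_eq_of_eq (toPullback_snd p j0 hj0π),
        ← Scheme.Hom.appLE_map (contrMap p j0 hj0π) (le_preimage_contrMap p j0 hj0π (U x)) (homOfLE hle).op,
        CommRingCat.comp_apply]
      refine (congrArg θ (congrArg (𝒜.toQCAlg.spec.presheaf.map (homOfLE hle).op).hom
        ((RingHom.congr_fun (appLE_contrMap p j0 hj0π (U x) (hU x)) (f x)).trans (hf x)))).trans ?_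
      rw [sigma]
      erw [hnat, SymX.res_elt_of_coord hA (hbU x) (hr x)]
      show (frameEquiv hLq hA (hb x) (he x)).symm
        (((inv 𝒜.toQCAlg.gammaMap).app (op (b x)) ≫ 𝒜.toQCAlg.gammaMap.app (op (b x))).hom _) = _
      rw [← NatTrans.comp_app, IsIso.inv_hom_id]
      simp only [NatTrans.id_app, CommRingCat.hom_id, RingHom.id_apply]
      rw [map_mul, map_pow, frameEquiv_symm_frame hLq hA (hb x) (he x)]
      congr 1
      exact frameEquiv_symm_str hLq hA (hb x) (he x) _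
    rw [map_mul, hC, hq, ← mul_assoc, ← map_mul, hv, map_one, one_mul]
  letI := φ.toAlgebra
  intro z
  show IsIntegral Γ(pullback p (contrπ p j0 hj0π), fst ⁻¹ᵁ b x) z
  induction z using Polynomial.induction_on' with
  | add u v hu hv => exact hu.add hv
  | monomial m c =>
    rw [← C_mul_X_pow_eq_monomial, ← hC c]
    refine (isIntegral_algebraMap (x := (fst.appLE (b x) (fst ⁻¹ᵁ b x) le_rfl).hom c)).mul (IsIntegral.pow ?_ m)
    obtain ⟨z, hz⟩ := hX
    refine IsIntegral.of_pow (hn x) ?_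
    rw [← hz]
    exact isIntegral_algebraMap

include hL hLq hA h0 haug hj0 in
theorem isProper_contrMap (hamp : RelAmple.IsRelAmple p L) : IsProper (contrMap p j0 hj0π) := by
  haveI := isFinite_toPullback p j0 hj0π hL hLq hA h0 aug haug hj0 hamp
  haveI : IsProper (pullback.snd p (contrπ p j0 hj0π)) := inferInstance
  rw [← toPullback_snd p j0 hj0π]
  infer_instance

omit [IsProper p] in
/-- A function with nilpotent restriction to the vertex has a power vanishing there. -/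
lemma exists_pow_toBase [IsSeparated p] [QuasiCompact p] {U : Y.Opens} (hU : IsAffineOpen U)
    (f : Γ(contr p j0 hj0π, contrπ p j0 hj0π ⁻¹ᵁ U))
    (hf : ∀ y, contrVertex p j0 hj0π y ∉ (contr p j0 hj0π).basicOpen f) :
    ∃ k, toBase p j0 hj0π U (f ^ (k + 1)) = 0 := by
  have hle : (𝟙 Y : Y ⟶ Y) ⁻¹ᵁ U ≤ contrVertex p j0 hj0π ⁻¹ᵁ (contrπ p j0 hj0π ⁻¹ᵁ U) :=
    (RelSpecX.preimage_eq _ _ _ (contrVertex_comp p j0 hj0π) U).le
  have hnil : IsNilpotent (toBase p j0 hj0π U f) := by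
    refine (Scheme.isNilpotent_iff_basicOpen_eq_bot_of_isCompact hU.isCompact _).mpr ?_
    have e : toBase p j0 hj0π U f = ((contrVertex p j0 hj0π).appLE _ ((𝟙 Y : Y ⟶ Y) ⁻¹ᵁ U) hle).hom f :=
      (congrArg (fun k => CommRingCat.Hom.hom k f) (RelSpecX.appLE_ofAlgHom _ _ (εAlg p j0 hj0π) ⟨U, hU⟩ hle)).symm
    rw [e]
    show Scheme.basicOpen Y (U := (𝟙 Y : Y ⟶ Y) ⁻¹ᵁ U) _ = ⊥
    rw [Scheme.Hom.appLE, CommRingCat.comp_apply]
    erw [Scheme.basicOpen_res]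
    rw [← Scheme.preimage_basicOpen, eq_bot_iff]
    exact fun y hy => (hf y hy.2).elim
  obtain ⟨k, hk⟩ := hnil
  exact ⟨k, by rw [map_pow, pow_succ, hk, zero_mul]⟩

include hL hLq hA h0 haug hj0 hV0 in
theorem range_contr (hamp : RelAmple.IsRelAmple p L) :
    Set.range (V0.ι ≫ contrMap p j0 hj0π) = (Set.range (contrVertex p j0 hj0π))ᶜ := by
  refine Set.Subset.antisymm ?_ fun c hc => ?_
  · intro c hc hc'
    exact (Set.eq_empty_iff_forall_notMem.mp (disjoint_vertex p j0 hj0π V0 hV0 hL hLq hA h0 aug haug hj0 hamp)) c ⟨hc, hc'⟩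
  haveI := isProper_contrMap p j0 hj0π hL hLq hA h0 aug haug hj0 hamp
  haveI : IsClosedImmersion (contrVertex p j0 hj0π ≫ contrπ p j0 hj0π) := by rw [contrVertex_comp]; infer_instance
  haveI : IsClosedImmersion (contrVertex p j0 hj0π) := IsClosedImmersion.of_comp _ (contrπ p j0 hj0π)
  obtain ⟨_, ⟨U, hU, rfl⟩, hcU, -⟩ :=
    Y.isBasis_affineOpens.exists_subset_of_mem_open (Set.mem_univ (contrπ p j0 hj0π c)) isOpen_univ
  have hT : IsAffineOpen (contrπ p j0 hj0π ⁻¹ᵁ U) := hU.preimage _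
  let Cε : (contr p j0 hj0π).Opens :=
    ⟨(Set.range (contrVertex p j0 hj0π))ᶜ, (contrVertex p j0 hj0π).isClosedEmbedding.isClosed_range.isOpen_compl⟩
  obtain ⟨f, hfle, hcf⟩ := hT.exists_basicOpen_le (V := Cε) ⟨c, hc⟩ hcU
  obtain ⟨k, hk⟩ := exists_pow_toBase p j0 hj0π hU f fun y hy => hfle hy ⟨y, rfl⟩
  have hcf' : c ∈ (contr p j0 hj0π).basicOpen (f ^ (k + 1)) := by rwa [Scheme.basicOpen_pow _ _ k.succ_pos]
  obtain ⟨v, rfl⟩ : c ∈ Set.range (contrMap p j0 hj0π) := by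
    by_contra hr
    let Cq : (contr p j0 hj0π).Opens :=
      ⟨(Set.range (contrMap p j0 hj0π))ᶜ, (contrMap p j0 hj0π).isClosedMap.isClosed_range.isOpen_compl⟩
    obtain ⟨z, hzle, hcz⟩ := hT.exists_basicOpen_le (V := Cq) ⟨c, hr⟩ hcU
    set w := f ^ (k + 1) * z with hw
    have hcw : c ∈ (contr p j0 hj0π).basicOpen w := by rw [hw, Scheme.basicOpen_mul]; exact ⟨hcf', hcz⟩
    have hw0 : toBase p j0 hj0π U w = 0 := by rw [hw, map_mul, hk, zero_mul]
    have hbot : 𝒜.toQCAlg.spec.basicOpen (toBundle p j0 hj0π U w) = ⊥ := by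
      rw [← (preimage_basicOpen_le p j0 hj0π V0 hV0 hU w).1, eq_bot_iff]
      intro v hv
      have hv' : contrMap p j0 hj0π v ∈ (contr p j0 hj0π).basicOpen z := by
        have : contrMap p j0 hj0π v ∈ (contr p j0 hj0π).basicOpen w := hv
        rw [hw, Scheme.basicOpen_mul] at this
        exact this.2
      exact (hzle hv' ⟨v, rfl⟩).elim
    obtain ⟨m, hm⟩ := (Scheme.isNilpotent_iff_basicOpen_eq_bot_of_isCompact
      ((𝒜.toQCAlg.π ≫ p).isCompact_preimage hU.isCompact) _).mpr hbot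
    have hzero := mul_eq_zero_of p j0 hj0π U w (w ^ m) hw0 (by rw [map_pow, hm])
    have hcm : c ∈ (contr p j0 hj0π).basicOpen (w * w ^ m) := by
      rw [← pow_succ', Scheme.basicOpen_pow _ _ m.succ_pos]; exact hcw
    rw [hzero, Scheme.basicOpen_zero] at hcm
    exact hcm.elim
  exact ⟨⟨v, (preimage_basicOpen_le p j0 hj0π V0 hV0 hU _).2 hk hcf'⟩, rfl⟩

end Groth.Agent.ContrX
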